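import Mathlib
import Cfsg.Agent.SuzT.Data

/-! Generated by tools/rec: a presentation of the centraliser of a central involution of Suz -/

set_option autoImplicit false
set_option maxRecDepth 100000
set_option linter.unusedVariables false
set_option exponentiation.threshold 100000

namespace Cfsg.Agent.SuzT

open Cfsg.Agent.Spor Cfsg.Agent.Rec

universe u

def relQ : List (List ℕ) :=
  [[0, 0],
   [1, 1],
   [2, 2],
   [3, 3],
   [4, 4],
   [5, 5],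
   [6, 6],
   [7, 7],
   [0, 1, 0, 1],
   [0, 2, 0, 2],
   [0, 3, 0, 3],
   [0, 4, 0, 4],
   [0, 5, 0, 5],
   [0, 6, 0, 6],
   [0, 7, 0, 7],
   [1, 2, 1, 2, 0],
   [1, 3, 1, 3],
   [1, 4, 1, 4],
   [1, 5, 1, 5],
   [1, 6, 1, 6],
   [1, 7, 1, 7],
   [2, 3, 2, 3],
   [2, 4, 2, 4],
   [2, 5, 2, 5],
   [2, 6, 2, 6],
   [2, 7, 2, 7],
   [3, 4, 3, 4, 0],
   [3, 5, 3, 5, 0],
   [3, 6, 3, 6, 0],
   [3, 7, 3, 7, 0],
   [4, 5, 4, 5, 0],
   [4, 6, 4, 6, 0],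
   [4, 7, 4, 7, 0],
   [5, 6, 5, 6, 0],
   [5, 7, 5, 7, 0],
   [6, 7, 6, 7, 0],
   [3, 4, 5, 6, 7]]

def relI : List (List ℕ) :=
  [[8, 9],
   [9, 8],
   [10, 11],
   [11, 10],
   [12, 13],
   [13, 12],
   [14, 15],
   [15, 14]]

def relA : List (List ℕ) :=
  [[8, 0, 9, 0],
   [8, 1, 9, 5, 1],
   [8, 2, 9, 6],
   [8, 3, 9, 7, 5, 2, 1],
   [8, 4, 9, 3, 5, 2, 1],
   [8, 5, 9, 1],
   [8, 6, 9, 6, 2],
   [8, 7, 9, 4, 5, 2, 1],
   [10, 0, 11, 0],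
   [10, 1, 11, 5, 1],
   [10, 2, 11, 7],
   [10, 3, 11, 4, 5, 2, 1],
   [10, 4, 11, 6, 5, 2, 1],
   [10, 5, 11, 1],
   [10, 6, 11, 5, 3, 2, 1],
   [10, 7, 11, 7, 2, 0],
   [12, 0, 13, 0],
   [12, 1, 13, 4, 1, 0],
   [12, 2, 13, 7],
   [12, 3, 13, 6, 4, 2, 1],
   [12, 4, 13, 1],
   [12, 5, 13, 3, 4, 2, 1],
   [12, 6, 13, 4, 5, 2, 1],
   [12, 7, 13, 7, 2, 0],
   [14, 0, 15, 0],
   [14, 1, 15, 5],
   [14, 2, 15, 3, 2, 0],
   [14, 3, 15, 2],
   [14, 4, 15, 7, 3, 2, 1],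
   [14, 5, 15, 5, 1],
   [14, 6, 15, 3, 4, 2, 1],
   [14, 7, 15, 6, 3, 2, 1]]

def relC : List (List ℕ) :=
  [[8, 8, 8],
   [10, 10, 10],
   [12, 12, 12],
   [14, 14, 14],
   [8, 10, 8, 11, 9, 11],
   [10, 12, 10, 13, 11, 13],
   [12, 14, 12, 15, 13, 15],
   [8, 12, 9, 13],
   [8, 14, 9, 15],
   [10, 14, 11, 5, 15, 5]]

/-- A word for an element whose square is `q`. -/
def wB : List ℕ := [14, 12, 11, 8, 11, 12, 11, 3, 4]

/-- The relators of the centraliser. -/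
def relH : List (List ℕ) := relQ ++ (relI ++ (relA ++ (relC ++ [wB ++ (wB ++ [1])])))

noncomputable def tH8_rels : LT :=
(.node (.node (.node (.node (.node (.node (.leaf [])
 (.leaf [nat_lit 4,nat_lit 6,nat_lit 4,nat_lit 6,nat_lit 0])
) (.leaf [nat_lit 1,nat_lit 2,nat_lit 1,nat_lit 2,nat_lit 0])
) (.node (.leaf [nat_lit 7,nat_lit 7])
 (.leaf [nat_lit 2,nat_lit 5,nat_lit 2,nat_lit 5])
)) (.node (.node (.node (.leaf [nat_lit 3,nat_lit 3])
 (.leaf [nat_lit 6,nat_lit 7,nat_lit 6,nat_lit 7,nat_lit 0])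
) (.leaf [nat_lit 1,nat_lit 6,nat_lit 1,nat_lit 6])
) (.node (.leaf [nat_lit 0,nat_lit 4,nat_lit 0,nat_lit 4])
 (.leaf [nat_lit 3,nat_lit 5,nat_lit 3,nat_lit 5,nat_lit 0])
))) (.node (.node (.node (.node (.leaf [nat_lit 1,nat_lit 1])
 (.leaf [nat_lit 5,nat_lit 6,nat_lit 5,nat_lit 6,nat_lit 0])
) (.leaf [nat_lit 1,nat_lit 4,nat_lit 1,nat_lit 4])
) (.node (.leaf [nat_lit 0,nat_lit 2,nat_lit 0,nat_lit 2])
 (.leaf [nat_lit 2,nat_lit 7,nat_lit 2,nat_lit 7])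
)) (.node (.node (.leaf [nat_lit 5,nat_lit 5])
 (.leaf [nat_lit 2,nat_lit 3,nat_lit 2,nat_lit 3])
) (.node (.leaf [nat_lit 0,nat_lit 6,nat_lit 0,nat_lit 6])
 (.leaf [nat_lit 3,nat_lit 7,nat_lit 3,nat_lit 7,nat_lit 0])
)))) (.node (.node (.node (.node (.node (.leaf [nat_lit 0,nat_lit 0])
 (.leaf [nat_lit 4,nat_lit 7,nat_lit 4,nat_lit 7,nat_lit 0])
) (.leaf [nat_lit 1,nat_lit 3,nat_lit 1,nat_lit 3])
) (.node (.leaf [nat_lit 0,nat_lit 1,nat_lit 0,nat_lit 1])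
 (.leaf [nat_lit 2,nat_lit 6,nat_lit 2,nat_lit 6])
)) (.node (.node (.node (.leaf [nat_lit 4,nat_lit 4])
 (.leaf [nat_lit 3,nat_lit 4,nat_lit 5,nat_lit 6,nat_lit 7])
) (.leaf [nat_lit 1,nat_lit 7,nat_lit 1,nat_lit 7])
) (.node (.leaf [nat_lit 0,nat_lit 5,nat_lit 0,nat_lit 5])
 (.leaf [nat_lit 3,nat_lit 6,nat_lit 3,nat_lit 6,nat_lit 0])
))) (.node (.node (.node (.node (.leaf [nat_lit 2,nat_lit 2])
 (.leaf [nat_lit 5,nat_lit 7,nat_lit 5,nat_lit 7,nat_lit 0])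
) (.leaf [nat_lit 1,nat_lit 5,nat_lit 1,nat_lit 5])
) (.node (.leaf [nat_lit 0,nat_lit 3,nat_lit 0,nat_lit 3])
 (.leaf [nat_lit 3,nat_lit 4,nat_lit 3,nat_lit 4,nat_lit 0])
)) (.node (.node (.leaf [nat_lit 6,nat_lit 6])
 (.leaf [nat_lit 2,nat_lit 4,nat_lit 2,nat_lit 4])
) (.node (.leaf [nat_lit 0,nat_lit 7,nat_lit 0,nat_lit 7])
 (.leaf [nat_lit 4,nat_lit 5,nat_lit 4,nat_lit 5,nat_lit 0])
)))))
noncomputable def tH8_hws : LT :=
(.leaf [])

noncomputable def tH8_inv : ℕ → ℕ := getP (nat_lit 8) (nat_lit 255) (nat_lit 0x706050403020100)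

noncomputable def tH8_t : BT :=
(.node (.node (.node (.node (.leaf (nat_lit 0x14bf27b10be2770cbd27308bc26f003f37f10ba6760cb987208b8a6e003e37e003a77a0cb667108b5a6d003d37d0039979003677508b326c003c37c0038b780035b74003337014b046710af6630cae85f08ada5b003056b10ac2620cab65e08aaa5a002f76a002c3660ca8c5d08a8259002e969002b7650028d6108a6258002db68002ab640028360002635c18a423e14a3a3d10a323c0ca2a3b08a223a14a144e10a064a0c9f846089ea420021552109d2490c9c645089ba410020751001d34d0c99c440899240001f950001c74c0019d48089723f001eb4f001bb4b0019347001734300243570023b5600233550022b540022353189361b149301a1092a190c924180891e17189181514912141090c130c906120890011148f42b108e8270c8dc23088d01f000f52f108bc260c8b222088a81e000e92e000bd2a0c89021088881d000dd2d000b3290009125088701c000d12c000a92800089240007120001373900131380012b3700125360011f350084610001193400113330010d320010731001013000047161882a08148260710822060c81e050881a04048160300812020002b0f000270e000230d0001f0c0001b0b000170a000130900001000100001))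
 (.leaf (nat_lit 0x7ff00007ff00007ff00007ff00007ff00007ff00007ff00007ff00007ff00007ff00007ff00007ff00007ff00007ff00007ff00007ff00007ff00007ff00007ff00007ff00007ff00007ff00007ff00007ff00007ff00007ff00007ff00007ff00007ff00007ff00007ff00007ff00007ff00007ff00007ff00007ff00007ff00007ff00007ff00007ff00007ff00007ff00007ff00007ff00007ff00007ff00007ff00007ff00007ff00007ff00007ff00007ff00007ff00007ff00007ff00007ff00007ff00007ff00007ff00007ff00007ff00007ff00007ff00007ff00007ff00007ff00007ff00007ff00007ff00007ff00007ff00007ff00007ff00007ff00007ff00007ff00007ff00007ff00007ff00007ff00007ff00007ff00007ff00007ff00007ff00007ff00007ff00007ff00007ff00007ff00007ff00007ff00007ff00007ff00007ff00007ff00007ff00007ff00007ff00007ff00007ff00007ff00007ff00007ff00007ff00007ff00007ff00007ff00007ff00007ff00007ff00007ff00007ff00007ff00007ff00007ff00007ff00007ff00007ff00007ff00007ff00007ff00007ff00007ff00007ff00007ff00007ff00007ff00))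
) (.leaf (nat_lit 0x74bfa746cbea6e003d13e68bc87a7cbba6d003c97c003973d68b9077003917874b766f003653c003fb7f7cb545774b4a566cb405568b38530037776003eb7e003bb7b003113a74b0a606cafc5a002e71b68ade667cad259002df68002b51a68aae63002af6474a985b0028b190030b6b7ca7c3974a74386ca6c3768a66350029962002fd6a002d367002491700355730034b7200341710022916003397074a1a476ca0c41001f715689ee4d7c9e240001ef4f001c514689be4a001bf4b749a8420019b130021b527c98c3474984336c97c326897630001a9490020d51001e34e0015911013d07d013967901364750014110013106c0027d5f002755e0026d5d001230a002675c0018d4600185450017d4400105090017743748f8246c8ec1e000db08688d22a7c8c81d000d32c000b107688aa27000ab28748981f0008f06000f92f7c8820f7487c0e6c8760d688720b0009926000ed2e000c92b0005f04012e669012b4650128a610004f0301248580122854011f650011c44c0119a480003502011583f011403b00083230007d2200077210001d01000732001122360110431010da2d010b0290108e2500009000105e1c0104e1801034120101c0c0100805))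
) (.node (.leaf (nat_lit 0x44bf65240be6513cbd65038bc64f48bb64e40baa4d3cb9c4c38b8e4b48b804a44b74493cb6a4838b5e4748b524644b484540b3e4438b364348b2c4244b244140b1c403cb143f44b062f40af82e3caea2d38adc2c48ace2b40ac42a3cab82938aac2848aa02744a96263ca8e2538a842448a7a2344a722240a6a2138a642048a5c1f44a561e40a501d3ca4a1c48a463444a3e3340a36323ca2e3138a2630003f77f003e77e003d77d003c77c003b77b003ab7a0039d790038f78003817700375760036b750035f74003537300349720033f7100337700032d6f003256e0031d6d003156c489561544950144094a133c944123893e11489380f449320e4092c0d3c9260c389200b00247570023f5600237550022f540022753003076b002f96a002eb69002dd68002cf67002c566002b965002ad64002a16300297620028f6100285600027b5f002735e0026b5d002655c0025d5b002575a00251590024b584885c08448580740854063c850053884c043484809001573e001513d0014b3c001453b0013f3a0002d02001393900133380012d3700127360012135000150100049160005d1b000591a000551900051180004d1700005000102c10010140a0100403))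
 (.leaf (nat_lit 0x3f13ea0bec709cbdc6d98bcc75a4bbe57a0bae559cba05498b925394b866c003713c003cd7c003637380b6274003453b70b426f003ed7e0034371003213a003dd7d0038777003031ba0afe5c9caf05998ae261a4ad639a0ac8379cabc3698ab03594aa6580029519002e368002895f80a8860002711870a6e5b002ff6a0026f5d0025517002f169002a763003bf7b0023916003af7a003a17900393780021315a0a0e439ca0040989f248a49e634a09d8329c9cc31989c030949b63f001a513001f34f0019946809984700181127097e420020f510017f4400165110020150001b74a013f07f0014d1001370760134472013206e002d7670012f0a002c966002bd65002b164001e74e0011109001d94d001cd4c001c14b000f308a08ee209c8e21d988d625a48cc0fa08c00d9c8b60c988ac0b948a41c0009706000d72c0008d238088c240007b05708781f000ef2e00079210006704000e32d000a527013026b00057030129462012705e012545a012385601212520003d02011a449011804501164410114c3d000cd2b0002501000c12a000b729000ad280112e380111033010f22f0000d0001096260107a22010661e010561a0103c14010240e0100c07))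
)) (.node (.node (.node (.leaf (nat_lit 0x2cbf46728be46324bd45f20bc45b30bb46b28ba86224b9a5e20b8c5a30b7e6a2cb726624b685d20b5c5930b50692cb466528b3c6120b345830b2a682cb226428b1a6024b125c003b57b0037f7700351730032b6f003f57f00373760034772003236e003e57e003a97a0033d710031b6d003d57d0039b790036975003136c003c57c0038d780035d74003357030a441b2ca3c1a28a341924a2c1820a24172ca162f28a082e249fa2d209ec2c309de2b289d42a249c829209bc28309b0272c9a6262499e2520994243098a232c982222897a2120974203096c1f2c9661e289601d2495a1c30954392c94e38289483724942362093c35001553e0014f3d001493c001433b0013d3a3091a0f2c9140e2890e0d249080c209020b00217520020951001fb50001ed4f001df4e001d54d001c94c001bd4b001b14a001a7490019f4800195470018b4600183450017b4400175430016d42001674100161400015b3f00245570023d5600235550022d540022553000450330842082c83e072883a06248360520832041c82e0a0011b3400115330010f32001093100103300002f10000110100043150003f140003b13000371200033110104416000030001010090100202))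
 (.leaf (nat_lit 0x4063e004053e004043e004033e004073d004053d004043d004033d004073c004063c004043c004033c004073b004063b004053b004033b004073a004063a004053a004043a003061b003051b003041b003031b003071a003051a003041a003031a003071900306190030419003031900307180030618003051800303180030717003061700305170030417003071600306160030516003041600303160030615003051500304150030315003071400305140030414003031400307130030613003041300303130030712003061200305120030312003071100306110030511003041100307100030610003051000304100030310003070a003060a003050a003040a003030a00307090030609003050900304090030309002060800205080020408002030800207070020507002040700203070020706002060600204060020306002070500206050020505002030500207040020604002050400204040020703002060300205030020403002030300201030020702002060200205020020402002030200202020020701002060100205010020401002030100202010020101001070000106000010500001040000103000010200001010000100000000000))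
) (.leaf (nat_lit 0x8cbfc6c003e13e88bda7884bca7290bbc70003a53d88b9e6f003db7d90b84578cb785688b6c5484b6053003576e003cb7c0033b3b003bd7b0039f795cb5673003193a003fd7f8cb0c58002f51b88aee6484ae05e90ad45c002c11a88aba5b002ef6990aa4398ca9a3888a903684a86350027f5a002e1680026918002d567002bb655ca7e5f0024f170030d6b0038577003797600231160036d7500361748ca1c3f0020515889fe4b849f045909e443001d114889ca42001ff50909b4348c9aa33889a03184996300018f41001f14f0017912001e54e001cb4c5c98e460015f110021d52013e07e013a47a00147100133a71013186d002a5630029b62001290a00291610028760001b54a001ab490010b09001a14800197478c8fa1c000e708888e028848d422908ca20000bb07888b41f000e12d908a20f8c89a0e888920c8488a0b000851e000d52c0007505000cb2b000b5295c884230006304000fb2f012f46a012c0660005303012685d0124e5901230550120451011d04d000390201178440115e40011463c000a3270009b26000210100093250008b2401128370110a32010e62e010ba2a0000b000107421010621d01052190103813010200d0100a06))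
) (.node (.leaf (nat_lit 0x58bf87154be8794cbd876003c13e64bb87554bac73003e97e003893d64b8272003d97d003b97b003593c003ad7a0038377003f97f003313b64b2e5758b265654b1e554cb165458b085d54afa654caec62002d91b64ad06154ac65f002fb6a002a91a64aa25e002ed69002d1670028119002c766002a363003096b002611864a5e3958a583854a52374ca4c360032f6f003276e0031f6d003176c002211658a184454a0a4c4c9fc49001e915649e048549d6460020b51001b914649b245001fd50001e14e0019113001d74d001b34a002195200171126496e34589683354962324c95c31013c07c0138878013587401330700013b100025f5b002595a00253590024d580011d0a0016f42001694100163400015d3f000ff09588f621548ea294c8de26000cf08648c625548be23000eb2e000a707648a022000df2d000c72b0008706000bf2a000a127000f72f0006f056486c0f588680e548640d4c8600c012d868012a8640128060012605c0004b030122053011e84f011b84b0119047011704300031020113a3a0006d1f000691e000651d000611c00019010111c35010fe30010ce2c010a62801086240106e2000007000104a170103011010180b0100604))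
 (.leaf (nat_lit 0xb4bfe56b0bee55acbde54a8bce53003b33d003b16c003a37400395710037d3c78b7a700036f6e50ba2790034f3b78b4c6d50b94780037b76003293a60b6e750034d7250bb07ab4b0e38b0b0037acaf236a8ae435002cd1a002cb58002bf60002b35d0029f1978a9c5c002935a50abe65002791878a765950ab2640029d620025b1760a9261002775e50aca660024116003ff7f003ef7e003df7d003cf7cb4a1e33b0a1032aca0231a89f430001dd14001db3f001cf47001c344001af13789ac43001a341509ce4c00189127898640509c24b001ad490016b11609a2480018745509da4d0015310013b27b0137c770134e73013286f001350a0030f6b003016a002f369002e56800117090021f5200211510020350001f54fb48fc0eb08f00dac8e40ca88d80b000c507000c31c000b924000af210009f067889c20000951e508b82900081057887e1d508ae280009d260006b0460894250007f22508c22a0005b03012cc670129e63012785f0125a5b01240570004102011dc4e011ae4a01188460116a42011523e0002901000fd2f000f12e000e52d000d92c011343901116340000f00010c42b0109e2701080230106a1f0105a1b0104015010280f0100e08))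
)))

noncomputable def tH8_rules : LT :=
(.node (.node (.node (.node (.node (.node (.leaf [nat_lit 9,nat_lit 1,nat_lit 1,nat_lit 0,nat_lit 1,nat_lit 0,nat_lit 1])
 (.leaf [nat_lit 34,nat_lit 1,nat_lit 0,nat_lit 6,nat_lit 5,nat_lit 6,nat_lit 0,nat_lit 5])
) (.leaf [nat_lit 24,nat_lit 1,nat_lit 1,nat_lit 2,nat_lit 5,nat_lit 2,nat_lit 5])
) (.node (.node (.leaf [nat_lit 17,nat_lit 1,nat_lit 1,nat_lit 1,nat_lit 3,nat_lit 1,nat_lit 3])
 (.leaf [nat_lit 34,nat_lit 3,nat_lit 1,nat_lit 6,nat_lit 5,nat_lit 0,nat_lit 6,nat_lit 5])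
) (.leaf [nat_lit 35,nat_lit 1,nat_lit 0,nat_lit 7,nat_lit 5,nat_lit 7,nat_lit 0,nat_lit 5])
)) (.node (.node (.node (.leaf [nat_lit 13,nat_lit 1,nat_lit 1,nat_lit 0,nat_lit 5,nat_lit 0,nat_lit 5])
 (.leaf [nat_lit 35,nat_lit 2,nat_lit 1,nat_lit 5,nat_lit 7,nat_lit 5,nat_lit 0,nat_lit 7])
) (.leaf [nat_lit 36,nat_lit 1,nat_lit 0,nat_lit 7,nat_lit 6,nat_lit 7,nat_lit 0,nat_lit 6])
) (.node (.node (.leaf [nat_lit 21,nat_lit 1,nat_lit 1,nat_lit 1,nat_lit 7,nat_lit 1,nat_lit 7])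
 (.leaf [nat_lit 35,nat_lit 3,nat_lit 1,nat_lit 7,nat_lit 5,nat_lit 0,nat_lit 7,nat_lit 5])
) (.leaf [nat_lit 37,nat_lit 1,nat_lit 1,nat_lit 6,nat_lit 5,nat_lit 4,nat_lit 3,nat_lit 7])
))) (.node (.node (.node (.node (.leaf [nat_lit 11,nat_lit 1,nat_lit 1,nat_lit 0,nat_lit 3,nat_lit 0,nat_lit 3])
 (.leaf [nat_lit 31,nat_lit 3,nat_lit 1,nat_lit 5,nat_lit 4,nat_lit 0,nat_lit 5,nat_lit 4])
) (.leaf [nat_lit 26,nat_lit 1,nat_lit 1,nat_lit 2,nat_lit 7,nat_lit 2,nat_lit 7])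
) (.node (.node (.leaf [nat_lit 19,nat_lit 1,nat_lit 1,nat_lit 1,nat_lit 5,nat_lit 1,nat_lit 5])
 (.leaf [nat_lit 30,nat_lit 3,nat_lit 1,nat_lit 7,nat_lit 3,nat_lit 0,nat_lit 7,nat_lit 3])
) (.leaf [nat_lit 27,nat_lit 3,nat_lit 1,nat_lit 4,nat_lit 3,nat_lit 0,nat_lit 4,nat_lit 3])
)) (.node (.node (.node (.leaf [nat_lit 15,nat_lit 1,nat_lit 1,nat_lit 0,nat_lit 7,nat_lit 0,nat_lit 7])
 (.leaf [nat_lit 29,nat_lit 3,nat_lit 1,nat_lit 6,nat_lit 3,nat_lit 0,nat_lit 6,nat_lit 3])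
) (.leaf [nat_lit 29,nat_lit 2,nat_lit 1,nat_lit 3,nat_lit 6,nat_lit 3,nat_lit 0,nat_lit 6])
) (.node (.leaf [nat_lit 22,nat_lit 1,nat_lit 1,nat_lit 2,nat_lit 3,nat_lit 2,nat_lit 3])
 (.leaf [nat_lit 37,nat_lit 0,nat_lit 1,nat_lit 7,nat_lit 6,nat_lit 5,nat_lit 4,nat_lit 3])
)))) (.node (.node (.node (.node (.node (.leaf [nat_lit 10,nat_lit 1,nat_lit 1,nat_lit 0,nat_lit 2,nat_lit 0,nat_lit 2])
 (.leaf [nat_lit 28,nat_lit 3,nat_lit 1,nat_lit 5,nat_lit 3,nat_lit 0,nat_lit 5,nat_lit 3])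
) (.leaf [nat_lit 25,nat_lit 1,nat_lit 1,nat_lit 2,nat_lit 6,nat_lit 2,nat_lit 6])
) (.node (.node (.leaf [nat_lit 18,nat_lit 1,nat_lit 1,nat_lit 1,nat_lit 4,nat_lit 1,nat_lit 4])
 (.leaf [nat_lit 36,nat_lit 2,nat_lit 1,nat_lit 6,nat_lit 7,nat_lit 6,nat_lit 0,nat_lit 7])
) (.leaf [nat_lit 30,nat_lit 2,nat_lit 1,nat_lit 3,nat_lit 7,nat_lit 3,nat_lit 0,nat_lit 7])
)) (.node (.node (.node (.leaf [nat_lit 14,nat_lit 1,nat_lit 1,nat_lit 0,nat_lit 6,nat_lit 0,nat_lit 6])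
 (.leaf [nat_lit 36,nat_lit 0,nat_lit 0,nat_lit 6,nat_lit 7,nat_lit 6,nat_lit 7,nat_lit 0])
) (.leaf [nat_lit 28,nat_lit 2,nat_lit 1,nat_lit 3,nat_lit 5,nat_lit 3,nat_lit 0,nat_lit 5])
) (.node (.node (.leaf [nat_lit 16,nat_lit 3,nat_lit 1,nat_lit 2,nat_lit 1,nat_lit 0,nat_lit 2,nat_lit 1])
 (.leaf [nat_lit 36,nat_lit 3,nat_lit 1,nat_lit 7,nat_lit 6,nat_lit 0,nat_lit 7,nat_lit 6])
) (.leaf [nat_lit 32,nat_lit 2,nat_lit 1,nat_lit 4,nat_lit 6,nat_lit 4,nat_lit 0,nat_lit 6])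
))) (.node (.node (.node (.node (.leaf [nat_lit 12,nat_lit 1,nat_lit 1,nat_lit 0,nat_lit 4,nat_lit 0,nat_lit 4])
 (.leaf [nat_lit 34,nat_lit 2,nat_lit 1,nat_lit 5,nat_lit 6,nat_lit 5,nat_lit 0,nat_lit 6])
) (.leaf [nat_lit 27,nat_lit 2,nat_lit 1,nat_lit 3,nat_lit 4,nat_lit 3,nat_lit 0,nat_lit 4])
) (.node (.node (.leaf [nat_lit 20,nat_lit 1,nat_lit 1,nat_lit 1,nat_lit 6,nat_lit 1,nat_lit 6])
 (.leaf [nat_lit 33,nat_lit 3,nat_lit 1,nat_lit 7,nat_lit 4,nat_lit 0,nat_lit 7,nat_lit 4])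
) (.leaf [nat_lit 31,nat_lit 2,nat_lit 1,nat_lit 4,nat_lit 5,nat_lit 4,nat_lit 0,nat_lit 5])
)) (.node (.node (.node (.leaf [nat_lit 16,nat_lit 2,nat_lit 1,nat_lit 1,nat_lit 2,nat_lit 1,nat_lit 0,nat_lit 2])
 (.leaf [nat_lit 32,nat_lit 3,nat_lit 1,nat_lit 6,nat_lit 4,nat_lit 0,nat_lit 6,nat_lit 4])
) (.leaf [nat_lit 37,nat_lit 2,nat_lit 0,nat_lit 5,nat_lit 6,nat_lit 7,nat_lit 3,nat_lit 4])
) (.node (.leaf [nat_lit 23,nat_lit 1,nat_lit 1,nat_lit 2,nat_lit 4,nat_lit 2,nat_lit 4])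
 (.leaf [nat_lit 33,nat_lit 2,nat_lit 1,nat_lit 4,nat_lit 7,nat_lit 4,nat_lit 0,nat_lit 7])
)))))

noncomputable def tH8_subs : LT :=
(.leaf [nat_lit 0,nat_lit 0,nat_lit 0,nat_lit 8])


noncomputable def tH8 : TC :=
  ⟨fun x c => Nat.shiftRight (BT.get tH8_t x) (Nat.mul (nat_lit 28) c),
  (nat_lit 8), (nat_lit 255), (nat_lit 524287), (nat_lit 19), (nat_lit 511), (nat_lit 524032), (nat_lit 128), (nat_lit 128), (nat_lit 8), (nat_lit 0), (nat_lit 8), (nat_lit 9), tH8_inv, tH8_rules, tH8_subs⟩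

theorem tH8_c1 : tH8.rules.all (ruleOK tH8.m tH8.inv tH8_rels) = true := by decide +kernel
theorem tH8_c2 : tH8.subs.all (subOK tH8.m tH8.inv tH8_hws) = true := by decide +kernel
theorem tH8_c3 : tH8.base = true := by decide +kernel

theorem tH8_s0 : tH8.slots (nat_lit 0) (nat_lit 128) = true := by decide +kernel

theorem tH8_c4 : tH8.Upto tH8.N := ((TC.upto_zero tH8).step _ tH8_s0)
theorem tH8_c5 : tH8.UptoE tH8.N := (TC.uptoE_n tH8)
theorem tH8_bound {G : Type*} [Group G] {g : ℕ → G} {H : Subgroup G} (hinv : ∀ x < 8, g x * g (tH8_inv x) = 1)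
    (hrels : ∀ i, evalW g (tH8_rels.get i) = 1) (hH : ∀ x < 0, g x ∈ H) (hhws : ∀ i, evalW g (tH8_hws.get i) ∈ H) :
    H.relIndex (genLt g 8) ≠ 0 ∧ H.relIndex (genLt g 8) ≤ 128 :=
  TC.relIndex_le (T := tH8) hinv hrels hH hhws tH8_c1 tH8_c2 tH8_c3 tH8_c4 tH8_c5

theorem tH8_bd : Bound.{u} relQ 0 8 128 := fun _ _ _ _ hs hH =>
  tH8_bound (hs.hinv (by decide +kernel)) (hs.tree (by decide +kernel)) hH (leaf_nil_mem' _ _ (by decide +kernel))

theorem presQ : Pres.{u} relQ 8 128 := pres_nil.step tH8_bd (by decide +kernel)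

def rel10 : List (List ℕ) :=
  [[0, 0],
   [1, 1],
   [2, 2],
   [3, 3],
   [4, 4],
   [5, 5],
   [6, 6],
   [7, 7],
   [0, 1, 0, 1],
   [0, 2, 0, 2],
   [0, 3, 0, 3],
   [0, 4, 0, 4],
   [0, 5, 0, 5],
   [0, 6, 0, 6],
   [0, 7, 0, 7],
   [1, 2, 1, 2, 0],
   [1, 3, 1, 3],
   [1, 4, 1, 4],
   [1, 5, 1, 5],
   [1, 6, 1, 6],
   [1, 7, 1, 7],
   [2, 3, 2, 3],
   [2, 4, 2, 4],
   [2, 5, 2, 5],
   [2, 6, 2, 6],
   [2, 7, 2, 7],
   [3, 4, 3, 4, 0],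
   [3, 5, 3, 5, 0],
   [3, 6, 3, 6, 0],
   [3, 7, 3, 7, 0],
   [4, 5, 4, 5, 0],
   [4, 6, 4, 6, 0],
   [4, 7, 4, 7, 0],
   [5, 6, 5, 6, 0],
   [5, 7, 5, 7, 0],
   [6, 7, 6, 7, 0],
   [3, 4, 5, 6, 7],
   [8, 9],
   [9, 8],
   [8, 0, 9, 0],
   [8, 1, 9, 5, 1],
   [8, 2, 9, 6],
   [8, 3, 9, 7, 5, 2, 1],
   [8, 4, 9, 3, 5, 2, 1],
   [8, 5, 9, 1],
   [8, 6, 9, 6, 2],
   [8, 7, 9, 4, 5, 2, 1],
   [8, 8, 8]]

noncomputable def tH10_rels : LT :=
(.node (.node (.node (.node (.node (.node (.leaf [])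
 (.leaf [nat_lit 3,nat_lit 7,nat_lit 3,nat_lit 7,nat_lit 0])
) (.node (.leaf [nat_lit 0,nat_lit 6,nat_lit 0,nat_lit 6])
 (.leaf [nat_lit 8,nat_lit 8,nat_lit 8])
)) (.node (.node (.leaf [nat_lit 7,nat_lit 7])
 (.leaf [nat_lit 8,nat_lit 0,nat_lit 9,nat_lit 0])
) (.leaf [nat_lit 2,nat_lit 3,nat_lit 2,nat_lit 3])
)) (.node (.node (.node (.leaf [nat_lit 3,nat_lit 3])
 (.leaf [nat_lit 5,nat_lit 6,nat_lit 5,nat_lit 6,nat_lit 0])
) (.leaf [nat_lit 1,nat_lit 4,nat_lit 1,nat_lit 4])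
) (.node (.node (.leaf [nat_lit 0,nat_lit 2,nat_lit 0,nat_lit 2])
 (.leaf [nat_lit 8,nat_lit 4,nat_lit 9,nat_lit 3,nat_lit 5,nat_lit 2,nat_lit 1])
) (.leaf [nat_lit 2,nat_lit 7,nat_lit 2,nat_lit 7])
))) (.node (.node (.node (.node (.leaf [nat_lit 1,nat_lit 1])
 (.leaf [nat_lit 4,nat_lit 6,nat_lit 4,nat_lit 6,nat_lit 0])
) (.leaf [nat_lit 1,nat_lit 2,nat_lit 1,nat_lit 2,nat_lit 0])
) (.node (.node (.leaf [nat_lit 9,nat_lit 8])
 (.leaf [nat_lit 8,nat_lit 2,nat_lit 9,nat_lit 6])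
) (.leaf [nat_lit 2,nat_lit 5,nat_lit 2,nat_lit 5])
)) (.node (.node (.node (.leaf [nat_lit 5,nat_lit 5])
 (.leaf [nat_lit 6,nat_lit 7,nat_lit 6,nat_lit 7,nat_lit 0])
) (.leaf [nat_lit 1,nat_lit 6,nat_lit 1,nat_lit 6])
) (.node (.node (.leaf [nat_lit 0,nat_lit 4,nat_lit 0,nat_lit 4])
 (.leaf [nat_lit 8,nat_lit 6,nat_lit 9,nat_lit 6,nat_lit 2])
) (.leaf [nat_lit 3,nat_lit 5,nat_lit 3,nat_lit 5,nat_lit 0])
)))) (.node (.node (.node (.node (.node (.leaf [nat_lit 0,nat_lit 0])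
 (.leaf [nat_lit 4,nat_lit 5,nat_lit 4,nat_lit 5,nat_lit 0])
) (.leaf [nat_lit 0,nat_lit 7,nat_lit 0,nat_lit 7])
) (.node (.node (.leaf [nat_lit 8,nat_lit 9])
 (.leaf [nat_lit 8,nat_lit 1,nat_lit 9,nat_lit 5,nat_lit 1])
) (.leaf [nat_lit 2,nat_lit 4,nat_lit 2,nat_lit 4])
)) (.node (.node (.node (.leaf [nat_lit 4,nat_lit 4])
 (.leaf [nat_lit 5,nat_lit 7,nat_lit 5,nat_lit 7,nat_lit 0])
) (.leaf [nat_lit 1,nat_lit 5,nat_lit 1,nat_lit 5])
) (.node (.node (.leaf [nat_lit 0,nat_lit 3,nat_lit 0,nat_lit 3])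
 (.leaf [nat_lit 8,nat_lit 5,nat_lit 9,nat_lit 1])
) (.leaf [nat_lit 3,nat_lit 4,nat_lit 3,nat_lit 4,nat_lit 0])
))) (.node (.node (.node (.node (.leaf [nat_lit 2,nat_lit 2])
 (.leaf [nat_lit 4,nat_lit 7,nat_lit 4,nat_lit 7,nat_lit 0])
) (.leaf [nat_lit 1,nat_lit 3,nat_lit 1,nat_lit 3])
) (.node (.node (.leaf [nat_lit 0,nat_lit 1,nat_lit 0,nat_lit 1])
 (.leaf [nat_lit 8,nat_lit 3,nat_lit 9,nat_lit 7,nat_lit 5,nat_lit 2,nat_lit 1])
) (.leaf [nat_lit 2,nat_lit 6,nat_lit 2,nat_lit 6])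
)) (.node (.node (.node (.leaf [nat_lit 6,nat_lit 6])
 (.leaf [nat_lit 3,nat_lit 4,nat_lit 5,nat_lit 6,nat_lit 7])
) (.leaf [nat_lit 1,nat_lit 7,nat_lit 1,nat_lit 7])
) (.node (.node (.leaf [nat_lit 0,nat_lit 5,nat_lit 0,nat_lit 5])
 (.leaf [nat_lit 8,nat_lit 7,nat_lit 9,nat_lit 4,nat_lit 5,nat_lit 2,nat_lit 1])
) (.leaf [nat_lit 3,nat_lit 6,nat_lit 3,nat_lit 6,nat_lit 0])
)))))
noncomputable def tH10_hws : LT :=
(.leaf [])

noncomputable def tH10_inv : ℕ → ℕ := getP (nat_lit 8) (nat_lit 255) (nat_lit 0x8090706050403020100)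

noncomputable def tH10_t : BT :=
(.node (.node (.node (.node (.leaf (nat_lit 0x1042c20105041c000))
 (.leaf (nat_lit 0x260000a8808101))
) (.leaf (nat_lit 0x1843a22108041c080))
) (.node (.node (.leaf (nat_lit 0x1443421105841c040))
 (.leaf (nat_lit 0x3fe000ff8003fe0))
) (.leaf (nat_lit 0x1c42e23107041c0c0))
)) (.node (.node (.node (.leaf (nat_lit 0x1243020906841c020))
 (.leaf (nat_lit 0x20428100048008242))
) (.leaf (nat_lit 0x1a43222906041c0a0))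
) (.node (.node (.leaf (nat_lit 0x1643821907841c060))
 (.leaf (nat_lit 0x212000840000000))
) (.leaf (nat_lit 0x1e43623908841c0e0))
)))

noncomputable def tH10_rules : LT :=
(.node (.node (.node (.node (.node (.leaf [nat_lit 40,nat_lit 2,nat_lit 1,nat_lit 0,nat_lit 9,nat_lit 0,nat_lit 8])
 (.leaf [nat_lit 48,nat_lit 1,nat_lit 0,nat_lit 9,nat_lit 8,nat_lit 8])
) (.leaf [nat_lit 40,nat_lit 0,nat_lit 1,nat_lit 0,nat_lit 8,nat_lit 0,nat_lit 9])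
) (.node (.leaf [nat_lit 44,nat_lit 5,nat_lit 1,nat_lit 4,nat_lit 9,nat_lit 1,nat_lit 2,nat_lit 5,nat_lit 3,nat_lit 8])
 (.leaf [nat_lit 47,nat_lit 3,nat_lit 1,nat_lit 4,nat_lit 8,nat_lit 7,nat_lit 9,nat_lit 1,nat_lit 2,nat_lit 5])
)) (.node (.node (.leaf [nat_lit 42,nat_lit 2,nat_lit 1,nat_lit 2,nat_lit 9,nat_lit 6,nat_lit 8])
 (.leaf [nat_lit 46,nat_lit 0,nat_lit 1,nat_lit 2,nat_lit 6,nat_lit 8,nat_lit 6,nat_lit 9])
) (.node (.leaf [nat_lit 46,nat_lit 3,nat_lit 1,nat_lit 6,nat_lit 9,nat_lit 2,nat_lit 6,nat_lit 8])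
 (.leaf [nat_lit 42,nat_lit 0,nat_lit 1,nat_lit 6,nat_lit 8,nat_lit 2,nat_lit 9])
))) (.node (.node (.node (.leaf [nat_lit 41,nat_lit 3,nat_lit 1,nat_lit 1,nat_lit 9,nat_lit 1,nat_lit 5,nat_lit 8])
 (.leaf [nat_lit 45,nat_lit 0,nat_lit 1,nat_lit 1,nat_lit 8,nat_lit 5,nat_lit 9])
) (.node (.leaf [nat_lit 45,nat_lit 2,nat_lit 1,nat_lit 5,nat_lit 9,nat_lit 1,nat_lit 8])
 (.leaf [nat_lit 41,nat_lit 1,nat_lit 1,nat_lit 5,nat_lit 8,nat_lit 1,nat_lit 9,nat_lit 1])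
)) (.node (.node (.leaf [nat_lit 43,nat_lit 5,nat_lit 1,nat_lit 3,nat_lit 9,nat_lit 1,nat_lit 2,nat_lit 5,nat_lit 7,nat_lit 8])
 (.leaf [nat_lit 44,nat_lit 3,nat_lit 1,nat_lit 3,nat_lit 8,nat_lit 4,nat_lit 9,nat_lit 1,nat_lit 2,nat_lit 5])
) (.node (.leaf [nat_lit 47,nat_lit 5,nat_lit 1,nat_lit 7,nat_lit 9,nat_lit 1,nat_lit 2,nat_lit 5,nat_lit 4,nat_lit 8])
 (.leaf [nat_lit 43,nat_lit 3,nat_lit 1,nat_lit 7,nat_lit 8,nat_lit 3,nat_lit 9,nat_lit 1,nat_lit 2,nat_lit 5])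
))))

noncomputable def tH10_subs : LT :=
(.leaf [nat_lit 0,nat_lit 0,nat_lit 0,nat_lit 10])


noncomputable def tH10 : TC :=
  ⟨fun x c => Nat.shiftRight (BT.get tH10_t x) (Nat.mul (nat_lit 22) c),
  (nat_lit 5), (nat_lit 31), (nat_lit 16383), (nat_lit 14), (nat_lit 255), (nat_lit 16352), (nat_lit 3), (nat_lit 3), (nat_lit 10), (nat_lit 8), (nat_lit 10), (nat_lit 11), tH10_inv, tH10_rules, tH10_subs⟩

theorem tH10_c1 : tH10.rules.all (ruleOK tH10.m tH10.inv tH10_rels) = true := by decide +kernel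
theorem tH10_c2 : tH10.subs.all (subOK tH10.m tH10.inv tH10_hws) = true := by decide +kernel
theorem tH10_c3 : tH10.base = true := by decide +kernel

theorem tH10_s0 : tH10.slots (nat_lit 0) (nat_lit 3) = true := by decide +kernel

theorem tH10_c4 : tH10.Upto tH10.N := ((TC.upto_zero tH10).step _ tH10_s0)
theorem tH10_c5 : tH10.UptoE tH10.N := (TC.uptoE_n tH10)
theorem tH10_bound {G : Type*} [Group G] {g : ℕ → G} {H : Subgroup G} (hinv : ∀ x < 10, g x * g (tH10_inv x) = 1)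
    (hrels : ∀ i, evalW g (tH10_rels.get i) = 1) (hH : ∀ x < 8, g x ∈ H) (hhws : ∀ i, evalW g (tH10_hws.get i) ∈ H) :
    H.relIndex (genLt g 10) ≠ 0 ∧ H.relIndex (genLt g 10) ≤ 3 :=
  TC.relIndex_le (T := tH10) hinv hrels hH hhws tH10_c1 tH10_c2 tH10_c3 tH10_c4 tH10_c5

theorem tH10_bd : Bound.{u} rel10 8 10 3 := fun _ _ _ _ hs hH =>
  tH10_bound (hs.hinv (by decide +kernel)) (hs.tree (by decide +kernel)) hH (leaf_nil_mem' _ _ (by decide +kernel))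

theorem pres10 : Pres.{u} rel10 10 384 := presQ.step tH10_bd (by decide +kernel)

def rel12 : List (List ℕ) :=
  [[0, 0],
   [1, 1],
   [2, 2],
   [3, 3],
   [4, 4],
   [5, 5],
   [6, 6],
   [7, 7],
   [0, 1, 0, 1],
   [0, 2, 0, 2],
   [0, 3, 0, 3],
   [0, 4, 0, 4],
   [0, 5, 0, 5],
   [0, 6, 0, 6],
   [0, 7, 0, 7],
   [1, 2, 1, 2, 0],
   [1, 3, 1, 3],
   [1, 4, 1, 4],
   [1, 5, 1, 5],
   [1, 6, 1, 6],
   [1, 7, 1, 7],
   [2, 3, 2, 3],
   [2, 4, 2, 4],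
   [2, 5, 2, 5],
   [2, 6, 2, 6],
   [2, 7, 2, 7],
   [3, 4, 3, 4, 0],
   [3, 5, 3, 5, 0],
   [3, 6, 3, 6, 0],
   [3, 7, 3, 7, 0],
   [4, 5, 4, 5, 0],
   [4, 6, 4, 6, 0],
   [4, 7, 4, 7, 0],
   [5, 6, 5, 6, 0],
   [5, 7, 5, 7, 0],
   [6, 7, 6, 7, 0],
   [3, 4, 5, 6, 7],
   [8, 9],
   [9, 8],
   [10, 11],
   [11, 10],
   [8, 0, 9, 0],
   [8, 1, 9, 5, 1],
   [8, 2, 9, 6],
   [8, 3, 9, 7, 5, 2, 1],
   [8, 4, 9, 3, 5, 2, 1],
   [8, 5, 9, 1],
   [8, 6, 9, 6, 2],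
   [8, 7, 9, 4, 5, 2, 1],
   [10, 0, 11, 0],
   [10, 1, 11, 5, 1],
   [10, 2, 11, 7],
   [10, 3, 11, 4, 5, 2, 1],
   [10, 4, 11, 6, 5, 2, 1],
   [10, 5, 11, 1],
   [10, 6, 11, 5, 3, 2, 1],
   [10, 7, 11, 7, 2, 0],
   [8, 8, 8],
   [10, 10, 10],
   [8, 10, 8, 11, 9, 11]]

noncomputable def tH12_rels : LT :=
(.node (.node (.node (.node (.node (.node (.leaf [])
 (.leaf [nat_lit 3,nat_lit 5,nat_lit 3,nat_lit 5,nat_lit 0])
) (.node (.leaf [nat_lit 0,nat_lit 4,nat_lit 0,nat_lit 4])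
 (.leaf [nat_lit 8,nat_lit 6,nat_lit 9,nat_lit 6,nat_lit 2])
)) (.node (.node (.leaf [nat_lit 7,nat_lit 7])
 (.leaf [nat_lit 6,nat_lit 7,nat_lit 6,nat_lit 7,nat_lit 0])
) (.node (.leaf [nat_lit 1,nat_lit 6,nat_lit 1,nat_lit 6])
 (.leaf [nat_lit 10,nat_lit 6,nat_lit 11,nat_lit 5,nat_lit 3,nat_lit 2,nat_lit 1])
))) (.node (.node (.node (.leaf [nat_lit 3,nat_lit 3])
 (.leaf [nat_lit 4,nat_lit 6,nat_lit 4,nat_lit 6,nat_lit 0])
) (.node (.leaf [nat_lit 1,nat_lit 2,nat_lit 1,nat_lit 2,nat_lit 0])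
 (.leaf [nat_lit 10,nat_lit 2,nat_lit 11,nat_lit 7])
)) (.node (.node (.leaf [nat_lit 11,nat_lit 10])
 (.leaf [nat_lit 8,nat_lit 2,nat_lit 9,nat_lit 6])
) (.node (.leaf [nat_lit 2,nat_lit 5,nat_lit 2,nat_lit 5])
 (.leaf [nat_lit 8,nat_lit 10,nat_lit 8,nat_lit 11,nat_lit 9,nat_lit 11])
)))) (.node (.node (.node (.node (.leaf [nat_lit 1,nat_lit 1])
 (.leaf [nat_lit 3,nat_lit 7,nat_lit 3,nat_lit 7,nat_lit 0])
) (.node (.leaf [nat_lit 0,nat_lit 6,nat_lit 0,nat_lit 6])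
 (.leaf [nat_lit 10,nat_lit 0,nat_lit 11,nat_lit 0])
)) (.node (.node (.leaf [nat_lit 9,nat_lit 8])
 (.leaf [nat_lit 8,nat_lit 0,nat_lit 9,nat_lit 0])
) (.node (.leaf [nat_lit 2,nat_lit 3,nat_lit 2,nat_lit 3])
 (.leaf [nat_lit 8,nat_lit 8,nat_lit 8])
))) (.node (.node (.node (.leaf [nat_lit 5,nat_lit 5])
 (.leaf [nat_lit 5,nat_lit 6,nat_lit 5,nat_lit 6,nat_lit 0])
) (.node (.leaf [nat_lit 1,nat_lit 4,nat_lit 1,nat_lit 4])
 (.leaf [nat_lit 10,nat_lit 4,nat_lit 11,nat_lit 6,nat_lit 5,nat_lit 2,nat_lit 1])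
)) (.node (.node (.leaf [nat_lit 0,nat_lit 2,nat_lit 0,nat_lit 2])
 (.leaf [nat_lit 8,nat_lit 4,nat_lit 9,nat_lit 3,nat_lit 5,nat_lit 2,nat_lit 1])
) (.leaf [nat_lit 2,nat_lit 7,nat_lit 2,nat_lit 7])
)))) (.node (.node (.node (.node (.node (.leaf [nat_lit 0,nat_lit 0])
 (.leaf [nat_lit 3,nat_lit 6,nat_lit 3,nat_lit 6,nat_lit 0])
) (.node (.leaf [nat_lit 0,nat_lit 5,nat_lit 0,nat_lit 5])
 (.leaf [nat_lit 8,nat_lit 7,nat_lit 9,nat_lit 4,nat_lit 5,nat_lit 2,nat_lit 1])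
)) (.node (.node (.leaf [nat_lit 8,nat_lit 9])
 (.leaf [nat_lit 3,nat_lit 4,nat_lit 5,nat_lit 6,nat_lit 7])
) (.node (.leaf [nat_lit 1,nat_lit 7,nat_lit 1,nat_lit 7])
 (.leaf [nat_lit 10,nat_lit 7,nat_lit 11,nat_lit 7,nat_lit 2,nat_lit 0])
))) (.node (.node (.node (.leaf [nat_lit 4,nat_lit 4])
 (.leaf [nat_lit 4,nat_lit 7,nat_lit 4,nat_lit 7,nat_lit 0])
) (.node (.leaf [nat_lit 1,nat_lit 3,nat_lit 1,nat_lit 3])
 (.leaf [nat_lit 10,nat_lit 3,nat_lit 11,nat_lit 4,nat_lit 5,nat_lit 2,nat_lit 1])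
)) (.node (.node (.leaf [nat_lit 0,nat_lit 1,nat_lit 0,nat_lit 1])
 (.leaf [nat_lit 8,nat_lit 3,nat_lit 9,nat_lit 7,nat_lit 5,nat_lit 2,nat_lit 1])
) (.leaf [nat_lit 2,nat_lit 6,nat_lit 2,nat_lit 6])
))) (.node (.node (.node (.node (.leaf [nat_lit 2,nat_lit 2])
 (.leaf [nat_lit 4,nat_lit 5,nat_lit 4,nat_lit 5,nat_lit 0])
) (.node (.leaf [nat_lit 0,nat_lit 7,nat_lit 0,nat_lit 7])
 (.leaf [nat_lit 10,nat_lit 1,nat_lit 11,nat_lit 5,nat_lit 1])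
)) (.node (.node (.leaf [nat_lit 10,nat_lit 11])
 (.leaf [nat_lit 8,nat_lit 1,nat_lit 9,nat_lit 5,nat_lit 1])
) (.node (.leaf [nat_lit 2,nat_lit 4,nat_lit 2,nat_lit 4])
 (.leaf [nat_lit 10,nat_lit 10,nat_lit 10])
))) (.node (.node (.node (.leaf [nat_lit 6,nat_lit 6])
 (.leaf [nat_lit 5,nat_lit 7,nat_lit 5,nat_lit 7,nat_lit 0])
) (.node (.leaf [nat_lit 1,nat_lit 5,nat_lit 1,nat_lit 5])
 (.leaf [nat_lit 10,nat_lit 5,nat_lit 11,nat_lit 1])
)) (.node (.node (.leaf [nat_lit 0,nat_lit 3,nat_lit 0,nat_lit 3])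
 (.leaf [nat_lit 8,nat_lit 5,nat_lit 9,nat_lit 1])
) (.leaf [nat_lit 3,nat_lit 4,nat_lit 3,nat_lit 4,nat_lit 0])
)))))
noncomputable def tH12_hws : LT :=
(.leaf [])

noncomputable def tH12_inv : ℕ → ℕ := getP (nat_lit 8) (nat_lit 255) (nat_lit 0xa0b08090706050403020100)

noncomputable def tH12_t : BT :=
(.node (.node (.node (.node (.leaf (nat_lit 0x8ac3b444819121d0ad10c044484419041808020602070000))
 (.leaf (nat_lit 0x948b63800450800238c000b410005e20083814041006070200))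
) (.node (.leaf (nat_lit 0x108bc3bc4511952210af10dc45485419841d08420902070100))
 (.leaf (nat_lit 0x7fe0003ff0001ff8000ffc0007fe0003ff0001ff8000ffc0))
)) (.node (.node (.leaf (nat_lit 0x88ae3b844c19321d8ae10d044c84619441c08220682070080))
 (.leaf (nat_lit 0x988a828004e1a321f880214870005018001500000b84020281))
) (.leaf (nat_lit 0x188be3c044919721f0b010c445c84c19c41e08620982070180))
)) (.node (.node (.node (.leaf (nat_lit 0x48b23b644a19221e8ad90c844884a19241a08120782070040))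
 (.leaf (nat_lit 0xb83c444614001c85110b830004208084418041608070240))
) (.node (.leaf (nat_lit 0x148b03be44b19621e0af90cc45884819a41b08520702070140))
 (.leaf (nat_lit 0x614200209080104040082410041008010b00008500000000))
)) (.node (.node (.leaf (nat_lit 0xc8ba3ba4501942208ae90d845085219641f083208820700c0))
 (.leaf (nat_lit 0xa624844d18002a8e0010056484e1a041604000580020502))
) (.leaf (nat_lit 0x1c8b43c244f1982218b090d446085619e419087208020701c0))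
)))

noncomputable def tH12_rules : LT :=
(.node (.node (.node (.node (.node (.node (.leaf [nat_lit 50,nat_lit 2,nat_lit 1,nat_lit 0,nat_lit 11,nat_lit 0,nat_lit 10])
 (.leaf [nat_lit 44,nat_lit 0,nat_lit 1,nat_lit 6,nat_lit 8,nat_lit 2,nat_lit 9])
) (.leaf [nat_lit 59,nat_lit 1,nat_lit 0,nat_lit 11,nat_lit 10,nat_lit 10])
) (.node (.leaf [nat_lit 50,nat_lit 0,nat_lit 1,nat_lit 0,nat_lit 10,nat_lit 0,nat_lit 11])
 (.leaf [nat_lit 49,nat_lit 5,nat_lit 1,nat_lit 7,nat_lit 9,nat_lit 1,nat_lit 2,nat_lit 5,nat_lit 4,nat_lit 8])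
)) (.node (.node (.node (.leaf [nat_lit 54,nat_lit 5,nat_lit 1,nat_lit 4,nat_lit 11,nat_lit 1,nat_lit 2,nat_lit 5,nat_lit 6,nat_lit 10])
 (.leaf [nat_lit 60,nat_lit 0,nat_lit 1,nat_lit 11,nat_lit 8,nat_lit 10,nat_lit 9,nat_lit 11,nat_lit 9])
) (.leaf [nat_lit 45,nat_lit 5,nat_lit 1,nat_lit 3,nat_lit 9,nat_lit 1,nat_lit 2,nat_lit 5,nat_lit 7,nat_lit 8])
) (.node (.leaf [nat_lit 53,nat_lit 3,nat_lit 1,nat_lit 4,nat_lit 10,nat_lit 3,nat_lit 11,nat_lit 1,nat_lit 2,nat_lit 5])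
 (.leaf [nat_lit 48,nat_lit 0,nat_lit 1,nat_lit 2,nat_lit 6,nat_lit 8,nat_lit 6,nat_lit 9])
))) (.node (.node (.node (.node (.leaf [nat_lit 52,nat_lit 2,nat_lit 1,nat_lit 2,nat_lit 11,nat_lit 7,nat_lit 10])
 (.leaf [nat_lit 58,nat_lit 1,nat_lit 0,nat_lit 9,nat_lit 8,nat_lit 8])
) (.leaf [nat_lit 43,nat_lit 3,nat_lit 1,nat_lit 1,nat_lit 9,nat_lit 1,nat_lit 5,nat_lit 8])
) (.node (.leaf [nat_lit 57,nat_lit 1,nat_lit 1,nat_lit 2,nat_lit 7,nat_lit 10,nat_lit 7,nat_lit 11,nat_lit 0])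
 (.leaf [nat_lit 42,nat_lit 0,nat_lit 1,nat_lit 0,nat_lit 8,nat_lit 0,nat_lit 9])
)) (.node (.node (.node (.leaf [nat_lit 56,nat_lit 5,nat_lit 1,nat_lit 6,nat_lit 11,nat_lit 1,nat_lit 2,nat_lit 3,nat_lit 5,nat_lit 10])
 (.leaf [nat_lit 59,nat_lit 1,nat_lit 1,nat_lit 10,nat_lit 11,nat_lit 11])
) (.leaf [nat_lit 47,nat_lit 2,nat_lit 1,nat_lit 5,nat_lit 9,nat_lit 1,nat_lit 8])
) (.node (.leaf [nat_lit 54,nat_lit 3,nat_lit 1,nat_lit 6,nat_lit 10,nat_lit 4,nat_lit 11,nat_lit 1,nat_lit 2,nat_lit 5])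
 (.leaf [nat_lit 49,nat_lit 3,nat_lit 1,nat_lit 4,nat_lit 8,nat_lit 7,nat_lit 9,nat_lit 1,nat_lit 2,nat_lit 5])
)))) (.node (.node (.node (.node (.node (.leaf [nat_lit 51,nat_lit 3,nat_lit 1,nat_lit 1,nat_lit 11,nat_lit 1,nat_lit 5,nat_lit 10])
 (.leaf [nat_lit 45,nat_lit 3,nat_lit 1,nat_lit 7,nat_lit 8,nat_lit 3,nat_lit 9,nat_lit 1,nat_lit 2,nat_lit 5])
) (.leaf [nat_lit 42,nat_lit 2,nat_lit 1,nat_lit 0,nat_lit 9,nat_lit 0,nat_lit 8])
) (.node (.leaf [nat_lit 55,nat_lit 0,nat_lit 1,nat_lit 1,nat_lit 10,nat_lit 5,nat_lit 11])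
 (.leaf [nat_lit 60,nat_lit 2,nat_lit 1,nat_lit 11,nat_lit 9,nat_lit 11,nat_lit 9,nat_lit 10,nat_lit 8])
)) (.node (.node (.node (.leaf [nat_lit 55,nat_lit 2,nat_lit 1,nat_lit 5,nat_lit 11,nat_lit 1,nat_lit 10])
 (.leaf [nat_lit 60,nat_lit 3,nat_lit 1,nat_lit 8,nat_lit 11,nat_lit 9,nat_lit 10,nat_lit 8,nat_lit 10])
) (.leaf [nat_lit 46,nat_lit 5,nat_lit 1,nat_lit 4,nat_lit 9,nat_lit 1,nat_lit 2,nat_lit 5,nat_lit 3,nat_lit 8])
) (.node (.leaf [nat_lit 51,nat_lit 1,nat_lit 1,nat_lit 5,nat_lit 10,nat_lit 1,nat_lit 11,nat_lit 1])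
 (.leaf [nat_lit 46,nat_lit 3,nat_lit 1,nat_lit 3,nat_lit 8,nat_lit 4,nat_lit 9,nat_lit 1,nat_lit 2,nat_lit 5])
))) (.node (.node (.node (.node (.leaf [nat_lit 53,nat_lit 5,nat_lit 1,nat_lit 3,nat_lit 11,nat_lit 1,nat_lit 2,nat_lit 5,nat_lit 4,nat_lit 10])
 (.leaf [nat_lit 60,nat_lit 4,nat_lit 1,nat_lit 10,nat_lit 9,nat_lit 10,nat_lit 8,nat_lit 10,nat_lit 9])
) (.leaf [nat_lit 44,nat_lit 2,nat_lit 1,nat_lit 2,nat_lit 9,nat_lit 6,nat_lit 8])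
) (.node (.leaf [nat_lit 56,nat_lit 2,nat_lit 1,nat_lit 3,nat_lit 5,nat_lit 10,nat_lit 6,nat_lit 11,nat_lit 1,nat_lit 2])
 (.leaf [nat_lit 47,nat_lit 0,nat_lit 1,nat_lit 1,nat_lit 8,nat_lit 5,nat_lit 9])
)) (.node (.node (.leaf [nat_lit 57,nat_lit 4,nat_lit 1,nat_lit 7,nat_lit 11,nat_lit 0,nat_lit 2,nat_lit 7,nat_lit 10])
 (.leaf [nat_lit 48,nat_lit 3,nat_lit 1,nat_lit 6,nat_lit 9,nat_lit 2,nat_lit 6,nat_lit 8])
) (.node (.leaf [nat_lit 52,nat_lit 0,nat_lit 1,nat_lit 7,nat_lit 10,nat_lit 2,nat_lit 11])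
 (.leaf [nat_lit 43,nat_lit 1,nat_lit 1,nat_lit 5,nat_lit 8,nat_lit 1,nat_lit 9,nat_lit 1])
)))))

noncomputable def tH12_subs : LT :=
(.leaf [nat_lit 0,nat_lit 0,nat_lit 0,nat_lit 12])


noncomputable def tH12 : TC :=
  ⟨fun x c => Nat.shiftRight (BT.get tH12_t x) (Nat.mul (nat_lit 25) c),
  (nat_lit 6), (nat_lit 63), (nat_lit 65535), (nat_lit 16), (nat_lit 511), (nat_lit 65472), (nat_lit 8), (nat_lit 8), (nat_lit 12), (nat_lit 10), (nat_lit 12), (nat_lit 13), tH12_inv, tH12_rules, tH12_subs⟩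

theorem tH12_c1 : tH12.rules.all (ruleOK tH12.m tH12.inv tH12_rels) = true := by decide +kernel
theorem tH12_c2 : tH12.subs.all (subOK tH12.m tH12.inv tH12_hws) = true := by decide +kernel
theorem tH12_c3 : tH12.base = true := by decide +kernel

theorem tH12_s0 : tH12.slots (nat_lit 0) (nat_lit 8) = true := by decide +kernel

theorem tH12_c4 : tH12.Upto tH12.N := ((TC.upto_zero tH12).step _ tH12_s0)
theorem tH12_c5 : tH12.UptoE tH12.N := (TC.uptoE_n tH12)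
theorem tH12_bound {G : Type*} [Group G] {g : ℕ → G} {H : Subgroup G} (hinv : ∀ x < 12, g x * g (tH12_inv x) = 1)
    (hrels : ∀ i, evalW g (tH12_rels.get i) = 1) (hH : ∀ x < 10, g x ∈ H) (hhws : ∀ i, evalW g (tH12_hws.get i) ∈ H) :
    H.relIndex (genLt g 12) ≠ 0 ∧ H.relIndex (genLt g 12) ≤ 8 :=
  TC.relIndex_le (T := tH12) hinv hrels hH hhws tH12_c1 tH12_c2 tH12_c3 tH12_c4 tH12_c5

theorem tH12_bd : Bound.{u} rel12 10 12 8 := fun _ _ _ _ hs hH =>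
  tH12_bound (hs.hinv (by decide +kernel)) (hs.tree (by decide +kernel)) hH (leaf_nil_mem' _ _ (by decide +kernel))

theorem pres12 : Pres.{u} rel12 12 3072 := pres10.step tH12_bd (by decide +kernel)

def rel14 : List (List ℕ) :=
  [[0, 0],
   [1, 1],
   [2, 2],
   [3, 3],
   [4, 4],
   [5, 5],
   [6, 6],
   [7, 7],
   [0, 1, 0, 1],
   [0, 2, 0, 2],
   [0, 3, 0, 3],
   [0, 4, 0, 4],
   [0, 5, 0, 5],
   [0, 6, 0, 6],
   [0, 7, 0, 7],
   [1, 2, 1, 2, 0],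
   [1, 3, 1, 3],
   [1, 4, 1, 4],
   [1, 5, 1, 5],
   [1, 6, 1, 6],
   [1, 7, 1, 7],
   [2, 3, 2, 3],
   [2, 4, 2, 4],
   [2, 5, 2, 5],
   [2, 6, 2, 6],
   [2, 7, 2, 7],
   [3, 4, 3, 4, 0],
   [3, 5, 3, 5, 0],
   [3, 6, 3, 6, 0],
   [3, 7, 3, 7, 0],
   [4, 5, 4, 5, 0],
   [4, 6, 4, 6, 0],
   [4, 7, 4, 7, 0],
   [5, 6, 5, 6, 0],
   [5, 7, 5, 7, 0],
   [6, 7, 6, 7, 0],
   [3, 4, 5, 6, 7],
   [8, 9],
   [9, 8],
   [10, 11],
   [11, 10],
   [12, 13],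
   [13, 12],
   [8, 0, 9, 0],
   [8, 1, 9, 5, 1],
   [8, 2, 9, 6],
   [8, 3, 9, 7, 5, 2, 1],
   [8, 4, 9, 3, 5, 2, 1],
   [8, 5, 9, 1],
   [8, 6, 9, 6, 2],
   [8, 7, 9, 4, 5, 2, 1],
   [10, 0, 11, 0],
   [10, 1, 11, 5, 1],
   [10, 2, 11, 7],
   [10, 3, 11, 4, 5, 2, 1],
   [10, 4, 11, 6, 5, 2, 1],
   [10, 5, 11, 1],
   [10, 6, 11, 5, 3, 2, 1],
   [10, 7, 11, 7, 2, 0],
   [12, 0, 13, 0],
   [12, 1, 13, 4, 1, 0],
   [12, 2, 13, 7],
   [12, 3, 13, 6, 4, 2, 1],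
   [12, 4, 13, 1],
   [12, 5, 13, 3, 4, 2, 1],
   [12, 6, 13, 4, 5, 2, 1],
   [12, 7, 13, 7, 2, 0],
   [8, 8, 8],
   [10, 10, 10],
   [12, 12, 12],
   [8, 10, 8, 11, 9, 11],
   [10, 12, 10, 13, 11, 13],
   [8, 12, 9, 13]]

noncomputable def tH14_rels : LT :=
(.node (.node (.node (.node (.node (.node (.node (.leaf [])
 (.leaf [nat_lit 12,nat_lit 4,nat_lit 13,nat_lit 1])
) (.leaf [nat_lit 2,nat_lit 7,nat_lit 2,nat_lit 7])
) (.node (.leaf [nat_lit 0,nat_lit 2,nat_lit 0,nat_lit 2])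
 (.leaf [nat_lit 8,nat_lit 4,nat_lit 9,nat_lit 3,nat_lit 5,nat_lit 2,nat_lit 1])
)) (.node (.node (.node (.leaf [nat_lit 7,nat_lit 7])
 (.leaf [nat_lit 10,nat_lit 12,nat_lit 10,nat_lit 13,nat_lit 11,nat_lit 13])
) (.leaf [nat_lit 5,nat_lit 6,nat_lit 5,nat_lit 6,nat_lit 0])
) (.node (.leaf [nat_lit 1,nat_lit 4,nat_lit 1,nat_lit 4])
 (.leaf [nat_lit 10,nat_lit 4,nat_lit 11,nat_lit 6,nat_lit 5,nat_lit 2,nat_lit 1])
))) (.node (.node (.node (.node (.leaf [nat_lit 3,nat_lit 3])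
 (.leaf [nat_lit 8,nat_lit 8,nat_lit 8])
) (.leaf [nat_lit 3,nat_lit 7,nat_lit 3,nat_lit 7,nat_lit 0])
) (.node (.leaf [nat_lit 0,nat_lit 6,nat_lit 0,nat_lit 6])
 (.leaf [nat_lit 10,nat_lit 0,nat_lit 11,nat_lit 0])
)) (.node (.node (.leaf [nat_lit 11,nat_lit 10])
 (.leaf [nat_lit 8,nat_lit 0,nat_lit 9,nat_lit 0])
) (.node (.leaf [nat_lit 2,nat_lit 3,nat_lit 2,nat_lit 3])
 (.leaf [nat_lit 12,nat_lit 0,nat_lit 13,nat_lit 0])
)))) (.node (.node (.node (.node (.node (.leaf [nat_lit 1,nat_lit 1])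
 (.leaf [nat_lit 12,nat_lit 6,nat_lit 13,nat_lit 4,nat_lit 5,nat_lit 2,nat_lit 1])
) (.leaf [nat_lit 3,nat_lit 5,nat_lit 3,nat_lit 5,nat_lit 0])
) (.node (.leaf [nat_lit 0,nat_lit 4,nat_lit 0,nat_lit 4])
 (.leaf [nat_lit 8,nat_lit 6,nat_lit 9,nat_lit 6,nat_lit 2])
)) (.node (.node (.leaf [nat_lit 9,nat_lit 8])
 (.leaf [nat_lit 6,nat_lit 7,nat_lit 6,nat_lit 7,nat_lit 0])
) (.node (.leaf [nat_lit 1,nat_lit 6,nat_lit 1,nat_lit 6])
 (.leaf [nat_lit 10,nat_lit 6,nat_lit 11,nat_lit 5,nat_lit 3,nat_lit 2,nat_lit 1])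
))) (.node (.node (.node (.node (.leaf [nat_lit 5,nat_lit 5])
 (.leaf [nat_lit 12,nat_lit 12,nat_lit 12])
) (.leaf [nat_lit 4,nat_lit 6,nat_lit 4,nat_lit 6,nat_lit 0])
) (.node (.leaf [nat_lit 1,nat_lit 2,nat_lit 1,nat_lit 2,nat_lit 0])
 (.leaf [nat_lit 10,nat_lit 2,nat_lit 11,nat_lit 7])
)) (.node (.node (.leaf [nat_lit 13,nat_lit 12])
 (.leaf [nat_lit 8,nat_lit 2,nat_lit 9,nat_lit 6])
) (.node (.leaf [nat_lit 2,nat_lit 5,nat_lit 2,nat_lit 5])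
 (.leaf [nat_lit 12,nat_lit 2,nat_lit 13,nat_lit 7])
))))) (.node (.node (.node (.node (.node (.node (.leaf [nat_lit 0,nat_lit 0])
 (.leaf [nat_lit 12,nat_lit 5,nat_lit 13,nat_lit 3,nat_lit 4,nat_lit 2,nat_lit 1])
) (.leaf [nat_lit 3,nat_lit 4,nat_lit 3,nat_lit 4,nat_lit 0])
) (.node (.leaf [nat_lit 0,nat_lit 3,nat_lit 0,nat_lit 3])
 (.leaf [nat_lit 8,nat_lit 5,nat_lit 9,nat_lit 1])
)) (.node (.node (.node (.leaf [nat_lit 8,nat_lit 9])
 (.leaf [nat_lit 8,nat_lit 12,nat_lit 9,nat_lit 13])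
) (.leaf [nat_lit 5,nat_lit 7,nat_lit 5,nat_lit 7,nat_lit 0])
) (.node (.leaf [nat_lit 1,nat_lit 5,nat_lit 1,nat_lit 5])
 (.leaf [nat_lit 10,nat_lit 5,nat_lit 11,nat_lit 1])
))) (.node (.node (.node (.node (.leaf [nat_lit 4,nat_lit 4])
 (.leaf [nat_lit 10,nat_lit 10,nat_lit 10])
) (.leaf [nat_lit 4,nat_lit 5,nat_lit 4,nat_lit 5,nat_lit 0])
) (.node (.leaf [nat_lit 0,nat_lit 7,nat_lit 0,nat_lit 7])
 (.leaf [nat_lit 10,nat_lit 1,nat_lit 11,nat_lit 5,nat_lit 1])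
)) (.node (.node (.leaf [nat_lit 12,nat_lit 13])
 (.leaf [nat_lit 8,nat_lit 1,nat_lit 9,nat_lit 5,nat_lit 1])
) (.node (.leaf [nat_lit 2,nat_lit 4,nat_lit 2,nat_lit 4])
 (.leaf [nat_lit 12,nat_lit 1,nat_lit 13,nat_lit 4,nat_lit 1,nat_lit 0])
)))) (.node (.node (.node (.node (.node (.leaf [nat_lit 2,nat_lit 2])
 (.leaf [nat_lit 12,nat_lit 7,nat_lit 13,nat_lit 7,nat_lit 2,nat_lit 0])
) (.leaf [nat_lit 3,nat_lit 6,nat_lit 3,nat_lit 6,nat_lit 0])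
) (.node (.leaf [nat_lit 0,nat_lit 5,nat_lit 0,nat_lit 5])
 (.leaf [nat_lit 8,nat_lit 7,nat_lit 9,nat_lit 4,nat_lit 5,nat_lit 2,nat_lit 1])
)) (.node (.node (.leaf [nat_lit 10,nat_lit 11])
 (.leaf [nat_lit 3,nat_lit 4,nat_lit 5,nat_lit 6,nat_lit 7])
) (.node (.leaf [nat_lit 1,nat_lit 7,nat_lit 1,nat_lit 7])
 (.leaf [nat_lit 10,nat_lit 7,nat_lit 11,nat_lit 7,nat_lit 2,nat_lit 0])
))) (.node (.node (.node (.node (.leaf [nat_lit 6,nat_lit 6])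
 (.leaf [nat_lit 8,nat_lit 10,nat_lit 8,nat_lit 11,nat_lit 9,nat_lit 11])
) (.leaf [nat_lit 4,nat_lit 7,nat_lit 4,nat_lit 7,nat_lit 0])
) (.node (.leaf [nat_lit 1,nat_lit 3,nat_lit 1,nat_lit 3])
 (.leaf [nat_lit 10,nat_lit 3,nat_lit 11,nat_lit 4,nat_lit 5,nat_lit 2,nat_lit 1])
)) (.node (.node (.leaf [nat_lit 0,nat_lit 1,nat_lit 0,nat_lit 1])
 (.leaf [nat_lit 8,nat_lit 3,nat_lit 9,nat_lit 7,nat_lit 5,nat_lit 2,nat_lit 1])
) (.node (.leaf [nat_lit 2,nat_lit 6,nat_lit 2,nat_lit 6])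
 (.leaf [nat_lit 12,nat_lit 3,nat_lit 13,nat_lit 6,nat_lit 4,nat_lit 2,nat_lit 1])
))))))
noncomputable def tH14_hws : LT :=
(.leaf [])

noncomputable def tH14_inv : ℕ → ℕ := getP (nat_lit 8) (nat_lit 255) (nat_lit 0xc0d0a0b08090706050403020100)

noncomputable def tH14_t : BT :=
(.node (.node (.node (.node (.leaf (nat_lit 0x4e4b71a124af19384a7182649f1738499161249115004891426483130047b1200474112646d10624650f4e45d0e624570d4e44f0c004490b624420a4e43b0962435084e42d07384270626420053841b0426414031240e02004070101c0000))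
 (.leaf (nat_lit 0x8a4b617224b099000aa18804a196008b51a22492950008b1480485938447d8b0007d128046f900006386000648f0005585000568d00076110004084000418a000338300034880085c0e0084e0c0083a090082c072240f82000090101c0400))
) (.node (.leaf (nat_lit 0x564bc1a1a4b199404ab982e4a4174049c961a493950848a142e487130847c1208475112e471106a46a8f564620e6a45b8d564540c0844a0b6a4468a5643f096a4398856432074042a862e424054041d842e418031a41082084080101c0200))
 (.leaf (nat_lit 0x604b89a000ad93000ae99000a3170009c160008f900009095000ab187c47a0d7c4730c0088814000670f6045e8e7e4588a60450897c448050087912008721100037086042e870002a064a42284008470b00017030000c800000d820080601))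
)) (.node (.node (.leaf (nat_lit 0x524b79a164b2193c4a9182a49f973c49b16164941504489942a483930447b9204474912a46d90664680f5245d8e6645a0d5244f8c044498b664440a5243b8966438085242d873c429062a420853c41d042a414831641102044078101c0100))
 (.leaf (nat_lit 0x764ba9a000b319000a592000a698000979100098967a48c94824820e0089e1700095158246c09000690f764608d0088113000530c7a44b8b000450a7643d880086b1000031070002582000268600019810001a840081f05008130301c0500))
) (.node (.leaf (nat_lit 0x5a4ba1a1e4b399444ac18324a4974449d161e495950c48e9432487930c480920c4789132471906e4658f5a4600e6e4578d5a4520c0c44d8b6e4428a5a43d096e435885a430074442b0632424854441e0432418831e411820c40b8101c0300))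
 (.leaf (nat_lit 0x3ff80003ff80003ff80003ff80003ff80003ff80003ff80003ff80003ff80003ff80003ff80003ff80003ff80003ff80003ff80003ff80003ff80003ff80003ff80003ff80003ff80003ff80003ff80003ff80003ff80003ff80003ff80))
))) (.node (.node (.node (.leaf (nat_lit 0x504b99a144b0193a4a818284a0973a49a1614492150248b9428484930247e9202476912846e90644660f5045f8e644580d504518c0244a8b644430a5043c8964436085042f873a4280628421853a41c0428415831440f02024098101c0080))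
 (.leaf (nat_lit 0xb596000b119884a998000b69a000a21700093151048a9400086131047c91104758b0007010724640e0005c86724560c0004e850007e1272441090003a8472434070002c83008630f008550d008400a00833080001002104088101c0480))
) (.node (.leaf (nat_lit 0x584b81a1c4b499424a898304a0174249a961c496950a48e1430484130a480120a478113046e106c4678f5845e0e6c4598d584500c0a44d0b6c4438a5843c096c437885842e07424288630421054241c8430415031c412820a40b0101c0280))
 (.leaf (nat_lit 0xb91a244ae184c4aa93364a2974c49b9624490140008890008ad19000798a00072890088f15744668f0005f0e0007a9200073910004784000590d000510c74436880002f074c42986000488b000230536416832440d0100006800080c02))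
)) (.node (.node (.leaf (nat_lit 0x544bb9a184b4193e4ac982c4a3973e49d9618496150648d942c486930647f9206477912c470906846a0f544618e6845b0d544538c0644c8b684460a5443e89684390854431873e42b862c423853e41e842c4178318412020640a8101c0180))
 (.leaf (nat_lit 0xbb1a864b299484a6170009e92484981586494910008d14000818d008a51800897160006b88784688f0008293000610e5e4528c0004c0b784448a0006c900003e095e4308748426050001f824841a0300013810082506008190401c0580))
) (.node (.leaf (nat_lit 0x5c4bc9a204af99464a798344a117464999620491950e48c1434485130e47f120e477113446f10704698f5c4628e7045a8d5c4548c0e44b0b704458a5c43f8970438885c43287464278634422054641b8434416032040e820e40a0101c0380))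
 (.leaf (nat_lit 0x30416002869300285920028512002859100286900028610002050d002060a002060900205080018486001840600184850018405001860400184840018404001848300184030010582001050200105810010501000868000086000000000))
))))

noncomputable def tH14_rules : LT :=
(.node (.node (.node (.node (.node (.node (.node (.leaf [nat_lit 60,nat_lit 2,nat_lit 1,nat_lit 0,nat_lit 13,nat_lit 0,nat_lit 12])
 (.leaf [nat_lit 71,nat_lit 3,nat_lit 1,nat_lit 8,nat_lit 11,nat_lit 9,nat_lit 10,nat_lit 8,nat_lit 10])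
) (.leaf [nat_lit 55,nat_lit 3,nat_lit 1,nat_lit 4,nat_lit 10,nat_lit 3,nat_lit 11,nat_lit 1,nat_lit 2,nat_lit 5])
) (.node (.leaf [nat_lit 62,nat_lit 0,nat_lit 1,nat_lit 7,nat_lit 12,nat_lit 2,nat_lit 13])
 (.leaf [nat_lit 73,nat_lit 2,nat_lit 1,nat_lit 12,nat_lit 9,nat_lit 12,nat_lit 8])
)) (.node (.node (.leaf [nat_lit 73,nat_lit 1,nat_lit 1,nat_lit 9,nat_lit 13,nat_lit 9,nat_lit 12])
 (.leaf [nat_lit 45,nat_lit 3,nat_lit 1,nat_lit 1,nat_lit 9,nat_lit 1,nat_lit 5,nat_lit 8])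
) (.node (.leaf [nat_lit 57,nat_lit 2,nat_lit 1,nat_lit 5,nat_lit 11,nat_lit 1,nat_lit 10])
 (.leaf [nat_lit 47,nat_lit 3,nat_lit 1,nat_lit 7,nat_lit 8,nat_lit 3,nat_lit 9,nat_lit 1,nat_lit 2,nat_lit 5])
))) (.node (.node (.node (.node (.leaf [nat_lit 64,nat_lit 2,nat_lit 1,nat_lit 4,nat_lit 13,nat_lit 1,nat_lit 12])
 (.leaf [nat_lit 71,nat_lit 1,nat_lit 1,nat_lit 9,nat_lit 10,nat_lit 9,nat_lit 11,nat_lit 9,nat_lit 10])
) (.leaf [nat_lit 69,nat_lit 1,nat_lit 0,nat_lit 11,nat_lit 10,nat_lit 10])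
) (.node (.leaf [nat_lit 53,nat_lit 3,nat_lit 1,nat_lit 1,nat_lit 11,nat_lit 1,nat_lit 5,nat_lit 10])
 (.leaf [nat_lit 48,nat_lit 3,nat_lit 1,nat_lit 3,nat_lit 8,nat_lit 4,nat_lit 9,nat_lit 1,nat_lit 2,nat_lit 5])
)) (.node (.node (.leaf [nat_lit 65,nat_lit 3,nat_lit 1,nat_lit 3,nat_lit 12,nat_lit 5,nat_lit 13,nat_lit 1,nat_lit 2,nat_lit 4])
 (.leaf [nat_lit 49,nat_lit 2,nat_lit 1,nat_lit 5,nat_lit 9,nat_lit 1,nat_lit 8])
) (.node (.leaf [nat_lit 52,nat_lit 0,nat_lit 1,nat_lit 0,nat_lit 10,nat_lit 0,nat_lit 11])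
 (.leaf [nat_lit 71,nat_lit 0,nat_lit 1,nat_lit 11,nat_lit 8,nat_lit 10,nat_lit 9,nat_lit 11,nat_lit 9])
)))) (.node (.node (.node (.node (.node (.leaf [nat_lit 62,nat_lit 2,nat_lit 1,nat_lit 2,nat_lit 13,nat_lit 7,nat_lit 12])
 (.leaf [nat_lit 73,nat_lit 2,nat_lit 0,nat_lit 8,nat_lit 13,nat_lit 8,nat_lit 12])
) (.leaf [nat_lit 56,nat_lit 3,nat_lit 1,nat_lit 6,nat_lit 10,nat_lit 4,nat_lit 11,nat_lit 1,nat_lit 2,nat_lit 5])
) (.node (.leaf [nat_lit 70,nat_lit 1,nat_lit 0,nat_lit 13,nat_lit 12,nat_lit 12])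
 (.leaf [nat_lit 49,nat_lit 0,nat_lit 1,nat_lit 1,nat_lit 8,nat_lit 5,nat_lit 9])
)) (.node (.node (.leaf [nat_lit 64,nat_lit 0,nat_lit 1,nat_lit 1,nat_lit 12,nat_lit 4,nat_lit 13])
 (.leaf [nat_lit 47,nat_lit 5,nat_lit 1,nat_lit 3,nat_lit 9,nat_lit 1,nat_lit 2,nat_lit 5,nat_lit 7,nat_lit 8])
) (.node (.leaf [nat_lit 59,nat_lit 4,nat_lit 1,nat_lit 7,nat_lit 11,nat_lit 0,nat_lit 2,nat_lit 7,nat_lit 10])
 (.leaf [nat_lit 73,nat_lit 0,nat_lit 1,nat_lit 13,nat_lit 8,nat_lit 13,nat_lit 9])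
))) (.node (.node (.node (.leaf [nat_lit 66,nat_lit 5,nat_lit 1,nat_lit 6,nat_lit 13,nat_lit 1,nat_lit 2,nat_lit 5,nat_lit 4,nat_lit 12])
 (.leaf [nat_lit 72,nat_lit 0,nat_lit 1,nat_lit 13,nat_lit 10,nat_lit 12,nat_lit 11,nat_lit 13,nat_lit 11])
) (.node (.leaf [nat_lit 55,nat_lit 5,nat_lit 1,nat_lit 3,nat_lit 11,nat_lit 1,nat_lit 2,nat_lit 5,nat_lit 4,nat_lit 10])
 (.leaf [nat_lit 45,nat_lit 1,nat_lit 1,nat_lit 5,nat_lit 8,nat_lit 1,nat_lit 9,nat_lit 1])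
)) (.node (.node (.leaf [nat_lit 66,nat_lit 2,nat_lit 1,nat_lit 5,nat_lit 4,nat_lit 12,nat_lit 6,nat_lit 13,nat_lit 1,nat_lit 2])
 (.leaf [nat_lit 51,nat_lit 5,nat_lit 1,nat_lit 7,nat_lit 9,nat_lit 1,nat_lit 2,nat_lit 5,nat_lit 4,nat_lit 8])
) (.node (.leaf [nat_lit 59,nat_lit 1,nat_lit 1,nat_lit 2,nat_lit 7,nat_lit 10,nat_lit 7,nat_lit 11,nat_lit 0])
 (.leaf [nat_lit 70,nat_lit 1,nat_lit 1,nat_lit 12,nat_lit 13,nat_lit 13])
))))) (.node (.node (.node (.node (.node (.node (.leaf [nat_lit 61,nat_lit 4,nat_lit 1,nat_lit 1,nat_lit 13,nat_lit 0,nat_lit 1,nat_lit 4,nat_lit 12])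
 (.leaf [nat_lit 69,nat_lit 1,nat_lit 1,nat_lit 10,nat_lit 11,nat_lit 11])
) (.leaf [nat_lit 53,nat_lit 1,nat_lit 1,nat_lit 5,nat_lit 10,nat_lit 1,nat_lit 11,nat_lit 1])
) (.node (.leaf [nat_lit 73,nat_lit 3,nat_lit 1,nat_lit 8,nat_lit 12,nat_lit 8,nat_lit 13])
 (.leaf [nat_lit 44,nat_lit 0,nat_lit 1,nat_lit 0,nat_lit 8,nat_lit 0,nat_lit 9])
)) (.node (.node (.leaf [nat_lit 60,nat_lit 0,nat_lit 1,nat_lit 0,nat_lit 12,nat_lit 0,nat_lit 13])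
 (.leaf [nat_lit 46,nat_lit 2,nat_lit 1,nat_lit 2,nat_lit 9,nat_lit 6,nat_lit 8])
) (.node (.leaf [nat_lit 58,nat_lit 5,nat_lit 1,nat_lit 6,nat_lit 11,nat_lit 1,nat_lit 2,nat_lit 3,nat_lit 5,nat_lit 10])
 (.leaf [nat_lit 68,nat_lit 1,nat_lit 0,nat_lit 9,nat_lit 8,nat_lit 8])
))) (.node (.node (.node (.node (.leaf [nat_lit 65,nat_lit 5,nat_lit 1,nat_lit 5,nat_lit 13,nat_lit 1,nat_lit 2,nat_lit 4,nat_lit 3,nat_lit 12])
 (.leaf [nat_lit 68,nat_lit 1,nat_lit 1,nat_lit 8,nat_lit 9,nat_lit 9])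
) (.leaf [nat_lit 72,nat_lit 4,nat_lit 1,nat_lit 12,nat_lit 11,nat_lit 12,nat_lit 10,nat_lit 12,nat_lit 11])
) (.node (.leaf [nat_lit 54,nat_lit 2,nat_lit 1,nat_lit 2,nat_lit 11,nat_lit 7,nat_lit 10])
 (.leaf [nat_lit 51,nat_lit 3,nat_lit 1,nat_lit 4,nat_lit 8,nat_lit 7,nat_lit 9,nat_lit 1,nat_lit 2,nat_lit 5])
)) (.node (.node (.leaf [nat_lit 61,nat_lit 2,nat_lit 1,nat_lit 4,nat_lit 12,nat_lit 1,nat_lit 13,nat_lit 0,nat_lit 1])
 (.leaf [nat_lit 50,nat_lit 3,nat_lit 1,nat_lit 6,nat_lit 9,nat_lit 2,nat_lit 6,nat_lit 8])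
) (.node (.leaf [nat_lit 57,nat_lit 0,nat_lit 1,nat_lit 1,nat_lit 10,nat_lit 5,nat_lit 11])
 (.leaf [nat_lit 72,nat_lit 3,nat_lit 1,nat_lit 10,nat_lit 13,nat_lit 11,nat_lit 12,nat_lit 10,nat_lit 12])
)))) (.node (.node (.node (.node (.node (.leaf [nat_lit 63,nat_lit 5,nat_lit 1,nat_lit 3,nat_lit 13,nat_lit 1,nat_lit 2,nat_lit 4,nat_lit 6,nat_lit 12])
 (.leaf [nat_lit 72,nat_lit 1,nat_lit 1,nat_lit 11,nat_lit 12,nat_lit 11,nat_lit 13,nat_lit 11,nat_lit 12])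
) (.leaf [nat_lit 54,nat_lit 0,nat_lit 1,nat_lit 7,nat_lit 10,nat_lit 2,nat_lit 11])
) (.node (.leaf [nat_lit 52,nat_lit 2,nat_lit 1,nat_lit 0,nat_lit 11,nat_lit 0,nat_lit 10])
 (.leaf [nat_lit 50,nat_lit 0,nat_lit 1,nat_lit 2,nat_lit 6,nat_lit 8,nat_lit 6,nat_lit 9])
)) (.node (.node (.leaf [nat_lit 67,nat_lit 1,nat_lit 1,nat_lit 2,nat_lit 7,nat_lit 12,nat_lit 7,nat_lit 13,nat_lit 0])
 (.leaf [nat_lit 48,nat_lit 5,nat_lit 1,nat_lit 4,nat_lit 9,nat_lit 1,nat_lit 2,nat_lit 5,nat_lit 3,nat_lit 8])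
) (.node (.leaf [nat_lit 72,nat_lit 2,nat_lit 1,nat_lit 13,nat_lit 11,nat_lit 13,nat_lit 11,nat_lit 12,nat_lit 10])
 (.leaf [nat_lit 71,nat_lit 4,nat_lit 1,nat_lit 10,nat_lit 9,nat_lit 10,nat_lit 8,nat_lit 10,nat_lit 9])
))) (.node (.node (.node (.leaf [nat_lit 67,nat_lit 4,nat_lit 1,nat_lit 7,nat_lit 13,nat_lit 0,nat_lit 2,nat_lit 7,nat_lit 12])
 (.leaf [nat_lit 44,nat_lit 2,nat_lit 1,nat_lit 0,nat_lit 9,nat_lit 0,nat_lit 8])
) (.node (.leaf [nat_lit 56,nat_lit 5,nat_lit 1,nat_lit 4,nat_lit 11,nat_lit 1,nat_lit 2,nat_lit 5,nat_lit 6,nat_lit 10])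
 (.leaf [nat_lit 46,nat_lit 0,nat_lit 1,nat_lit 6,nat_lit 8,nat_lit 2,nat_lit 9])
)) (.node (.node (.leaf [nat_lit 63,nat_lit 3,nat_lit 1,nat_lit 6,nat_lit 12,nat_lit 3,nat_lit 13,nat_lit 1,nat_lit 2,nat_lit 4])
 (.leaf [nat_lit 71,nat_lit 2,nat_lit 1,nat_lit 11,nat_lit 9,nat_lit 11,nat_lit 9,nat_lit 10,nat_lit 8])
) (.node (.leaf [nat_lit 58,nat_lit 2,nat_lit 1,nat_lit 3,nat_lit 5,nat_lit 10,nat_lit 6,nat_lit 11,nat_lit 1,nat_lit 2])
 (.leaf [nat_lit 73,nat_lit 3,nat_lit 0,nat_lit 12,nat_lit 8,nat_lit 12,nat_lit 9])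
))))))

noncomputable def tH14_subs : LT :=
(.leaf [nat_lit 0,nat_lit 0,nat_lit 0,nat_lit 14])


noncomputable def tH14 : TC :=
  ⟨fun x c => Nat.shiftRight (BT.get tH14_t x) (Nat.mul (nat_lit 28) c),
  (nat_lit 7), (nat_lit 127), (nat_lit 262143), (nat_lit 18), (nat_lit 1023), (nat_lit 262016), (nat_lit 27), (nat_lit 27), (nat_lit 14), (nat_lit 12), (nat_lit 14), (nat_lit 15), tH14_inv, tH14_rules, tH14_subs⟩

theorem tH14_c1 : tH14.rules.all (ruleOK tH14.m tH14.inv tH14_rels) = true := by decide +kernel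
theorem tH14_c2 : tH14.subs.all (subOK tH14.m tH14.inv tH14_hws) = true := by decide +kernel
theorem tH14_c3 : tH14.base = true := by decide +kernel

theorem tH14_s0 : tH14.slots (nat_lit 0) (nat_lit 27) = true := by decide +kernel

theorem tH14_c4 : tH14.Upto tH14.N := ((TC.upto_zero tH14).step _ tH14_s0)
theorem tH14_c5 : tH14.UptoE tH14.N := (TC.uptoE_n tH14)
theorem tH14_bound {G : Type*} [Group G] {g : ℕ → G} {H : Subgroup G} (hinv : ∀ x < 14, g x * g (tH14_inv x) = 1)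
    (hrels : ∀ i, evalW g (tH14_rels.get i) = 1) (hH : ∀ x < 12, g x ∈ H) (hhws : ∀ i, evalW g (tH14_hws.get i) ∈ H) :
    H.relIndex (genLt g 14) ≠ 0 ∧ H.relIndex (genLt g 14) ≤ 27 :=
  TC.relIndex_le (T := tH14) hinv hrels hH hhws tH14_c1 tH14_c2 tH14_c3 tH14_c4 tH14_c5

theorem tH14_bd : Bound.{u} rel14 12 14 27 := fun _ _ _ _ hs hH =>
  tH14_bound (hs.hinv (by decide +kernel)) (hs.tree (by decide +kernel)) hH (leaf_nil_mem' _ _ (by decide +kernel))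

theorem pres14 : Pres.{u} rel14 14 82944 := pres12.step tH14_bd (by decide +kernel)

noncomputable def tH16_rels : LT :=
(.node (.node (.node (.node (.node (.node (.node (.leaf [])
 (.leaf [nat_lit 12,nat_lit 2,nat_lit 13,nat_lit 7])
) (.leaf [nat_lit 2,nat_lit 5,nat_lit 2,nat_lit 5])
) (.node (.node (.leaf [nat_lit 15,nat_lit 14])
 (.leaf [nat_lit 12,nat_lit 12,nat_lit 12])
) (.leaf [nat_lit 8,nat_lit 2,nat_lit 9,nat_lit 6])
)) (.node (.node (.node (.leaf [nat_lit 7,nat_lit 7])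
 (.leaf [nat_lit 14,nat_lit 2,nat_lit 15,nat_lit 3,nat_lit 2,nat_lit 0])
) (.leaf [nat_lit 4,nat_lit 6,nat_lit 4,nat_lit 6,nat_lit 0])
) (.node (.node (.leaf [nat_lit 1,nat_lit 2,nat_lit 1,nat_lit 2,nat_lit 0])
 (.leaf [nat_lit 14,nat_lit 12,nat_lit 11,nat_lit 8,nat_lit 11,nat_lit 12,nat_lit 11,nat_lit 3,nat_lit 4,nat_lit 14,nat_lit 12,nat_lit 11,nat_lit 8,nat_lit 11,nat_lit 12,nat_lit 11,nat_lit 3,nat_lit 4,nat_lit 1])
) (.leaf [nat_lit 10,nat_lit 2,nat_lit 11,nat_lit 7])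
))) (.node (.node (.node (.node (.leaf [nat_lit 3,nat_lit 3])
 (.leaf [nat_lit 12,nat_lit 6,nat_lit 13,nat_lit 4,nat_lit 5,nat_lit 2,nat_lit 1])
) (.leaf [nat_lit 3,nat_lit 5,nat_lit 3,nat_lit 5,nat_lit 0])
) (.node (.node (.leaf [nat_lit 0,nat_lit 4,nat_lit 0,nat_lit 4])
 (.leaf [nat_lit 12,nat_lit 14,nat_lit 12,nat_lit 15,nat_lit 13,nat_lit 15])
) (.leaf [nat_lit 8,nat_lit 6,nat_lit 9,nat_lit 6,nat_lit 2])
)) (.node (.node (.node (.leaf [nat_lit 11,nat_lit 10])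
 (.leaf [nat_lit 14,nat_lit 6,nat_lit 15,nat_lit 3,nat_lit 4,nat_lit 2,nat_lit 1])
) (.leaf [nat_lit 6,nat_lit 7,nat_lit 6,nat_lit 7,nat_lit 0])
) (.node (.leaf [nat_lit 1,nat_lit 6,nat_lit 1,nat_lit 6])
 (.leaf [nat_lit 10,nat_lit 6,nat_lit 11,nat_lit 5,nat_lit 3,nat_lit 2,nat_lit 1])
)))) (.node (.node (.node (.node (.node (.leaf [nat_lit 1,nat_lit 1])
 (.leaf [nat_lit 12,nat_lit 4,nat_lit 13,nat_lit 1])
) (.leaf [nat_lit 2,nat_lit 7,nat_lit 2,nat_lit 7])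
) (.node (.node (.leaf [nat_lit 0,nat_lit 2,nat_lit 0,nat_lit 2])
 (.leaf [nat_lit 8,nat_lit 10,nat_lit 8,nat_lit 11,nat_lit 9,nat_lit 11])
) (.leaf [nat_lit 8,nat_lit 4,nat_lit 9,nat_lit 3,nat_lit 5,nat_lit 2,nat_lit 1])
)) (.node (.node (.node (.leaf [nat_lit 9,nat_lit 8])
 (.leaf [nat_lit 14,nat_lit 4,nat_lit 15,nat_lit 7,nat_lit 3,nat_lit 2,nat_lit 1])
) (.leaf [nat_lit 5,nat_lit 6,nat_lit 5,nat_lit 6,nat_lit 0])
) (.node (.leaf [nat_lit 1,nat_lit 4,nat_lit 1,nat_lit 4])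
 (.leaf [nat_lit 10,nat_lit 4,nat_lit 11,nat_lit 6,nat_lit 5,nat_lit 2,nat_lit 1])
))) (.node (.node (.node (.node (.leaf [nat_lit 5,nat_lit 5])
 (.leaf [nat_lit 14,nat_lit 0,nat_lit 15,nat_lit 0])
) (.leaf [nat_lit 3,nat_lit 7,nat_lit 3,nat_lit 7,nat_lit 0])
) (.node (.node (.leaf [nat_lit 0,nat_lit 6,nat_lit 0,nat_lit 6])
 (.leaf [nat_lit 8,nat_lit 14,nat_lit 9,nat_lit 15])
) (.leaf [nat_lit 10,nat_lit 0,nat_lit 11,nat_lit 0])
)) (.node (.node (.node (.leaf [nat_lit 13,nat_lit 12])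
 (.leaf [nat_lit 8,nat_lit 8,nat_lit 8])
) (.leaf [nat_lit 8,nat_lit 0,nat_lit 9,nat_lit 0])
) (.node (.leaf [nat_lit 2,nat_lit 3,nat_lit 2,nat_lit 3])
 (.leaf [nat_lit 12,nat_lit 0,nat_lit 13,nat_lit 0])
))))) (.node (.node (.node (.node (.node (.node (.leaf [nat_lit 0,nat_lit 0])
 (.leaf [nat_lit 12,nat_lit 3,nat_lit 13,nat_lit 6,nat_lit 4,nat_lit 2,nat_lit 1])
) (.leaf [nat_lit 2,nat_lit 6,nat_lit 2,nat_lit 6])
) (.node (.node (.leaf [nat_lit 0,nat_lit 1,nat_lit 0,nat_lit 1])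
 (.leaf [nat_lit 14,nat_lit 14,nat_lit 14])
) (.leaf [nat_lit 8,nat_lit 3,nat_lit 9,nat_lit 7,nat_lit 5,nat_lit 2,nat_lit 1])
)) (.node (.node (.node (.leaf [nat_lit 8,nat_lit 9])
 (.leaf [nat_lit 14,nat_lit 3,nat_lit 15,nat_lit 2])
) (.leaf [nat_lit 4,nat_lit 7,nat_lit 4,nat_lit 7,nat_lit 0])
) (.node (.leaf [nat_lit 1,nat_lit 3,nat_lit 1,nat_lit 3])
 (.leaf [nat_lit 10,nat_lit 3,nat_lit 11,nat_lit 4,nat_lit 5,nat_lit 2,nat_lit 1])
))) (.node (.node (.node (.node (.leaf [nat_lit 4,nat_lit 4])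
 (.leaf [nat_lit 12,nat_lit 7,nat_lit 13,nat_lit 7,nat_lit 2,nat_lit 0])
) (.leaf [nat_lit 3,nat_lit 6,nat_lit 3,nat_lit 6,nat_lit 0])
) (.node (.node (.leaf [nat_lit 0,nat_lit 5,nat_lit 0,nat_lit 5])
 (.leaf [nat_lit 8,nat_lit 12,nat_lit 9,nat_lit 13])
) (.leaf [nat_lit 8,nat_lit 7,nat_lit 9,nat_lit 4,nat_lit 5,nat_lit 2,nat_lit 1])
)) (.node (.node (.node (.leaf [nat_lit 12,nat_lit 13])
 (.leaf [nat_lit 14,nat_lit 7,nat_lit 15,nat_lit 6,nat_lit 3,nat_lit 2,nat_lit 1])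
) (.leaf [nat_lit 3,nat_lit 4,nat_lit 5,nat_lit 6,nat_lit 7])
) (.node (.leaf [nat_lit 1,nat_lit 7,nat_lit 1,nat_lit 7])
 (.leaf [nat_lit 10,nat_lit 7,nat_lit 11,nat_lit 7,nat_lit 2,nat_lit 0])
)))) (.node (.node (.node (.node (.node (.leaf [nat_lit 2,nat_lit 2])
 (.leaf [nat_lit 12,nat_lit 5,nat_lit 13,nat_lit 3,nat_lit 4,nat_lit 2,nat_lit 1])
) (.leaf [nat_lit 3,nat_lit 4,nat_lit 3,nat_lit 4,nat_lit 0])
) (.node (.node (.leaf [nat_lit 0,nat_lit 3,nat_lit 0,nat_lit 3])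
 (.leaf [nat_lit 10,nat_lit 12,nat_lit 10,nat_lit 13,nat_lit 11,nat_lit 13])
) (.leaf [nat_lit 8,nat_lit 5,nat_lit 9,nat_lit 1])
)) (.node (.node (.node (.leaf [nat_lit 10,nat_lit 11])
 (.leaf [nat_lit 14,nat_lit 5,nat_lit 15,nat_lit 5,nat_lit 1])
) (.leaf [nat_lit 5,nat_lit 7,nat_lit 5,nat_lit 7,nat_lit 0])
) (.node (.leaf [nat_lit 1,nat_lit 5,nat_lit 1,nat_lit 5])
 (.leaf [nat_lit 10,nat_lit 5,nat_lit 11,nat_lit 1])
))) (.node (.node (.node (.node (.leaf [nat_lit 6,nat_lit 6])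
 (.leaf [nat_lit 14,nat_lit 1,nat_lit 15,nat_lit 5])
) (.leaf [nat_lit 4,nat_lit 5,nat_lit 4,nat_lit 5,nat_lit 0])
) (.node (.node (.leaf [nat_lit 0,nat_lit 7,nat_lit 0,nat_lit 7])
 (.leaf [nat_lit 10,nat_lit 14,nat_lit 11,nat_lit 5,nat_lit 15,nat_lit 5])
) (.leaf [nat_lit 10,nat_lit 1,nat_lit 11,nat_lit 5,nat_lit 1])
)) (.node (.node (.node (.leaf [nat_lit 14,nat_lit 15])
 (.leaf [nat_lit 10,nat_lit 10,nat_lit 10])
) (.leaf [nat_lit 8,nat_lit 1,nat_lit 9,nat_lit 5,nat_lit 1])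
) (.node (.leaf [nat_lit 2,nat_lit 4,nat_lit 2,nat_lit 4])
 (.leaf [nat_lit 12,nat_lit 1,nat_lit 13,nat_lit 4,nat_lit 1,nat_lit 0])
))))))
noncomputable def tH16_hws : LT :=
(.leaf [])

noncomputable def tH16_inv : ℕ → ℕ := getP (nat_lit 8) (nat_lit 255) (nat_lit 0xe0f0c0d0a0b08090706050403020100)

noncomputable def tH16_t : BT :=
(.node (.node (.node (.node (.node (.leaf (nat_lit 0x56539273e52f2600525253e51c2456513232a50a2200500213e4f920004f11f564ea1e004e11d144d81c8c4ce1ba44c61a8c4bd19004b618a44ad178c4a5160049f15a4498148c48f132a48812a4480118c477106a46e0f564650e6a45f0d564570c004500b6a4490a56442096a43c0856434073e42d062a425053e41f042a417031441002004080101c0000))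
 (.leaf (nat_lit 0x3ff80003ff80003ff80003ff80003ff80003ff80003ff80003ff80003ff80003ff80003ff80003ff80003ff80003ff80003ff80003ff80003ff80003ff80003ff80003ff80003ff80003ff80003ff80003ff80003ff80003ff80003ff80003ff80003ff80003ff80003ff80003ff80003ff80003ff80003ff80003ff80003ff80003ff80003ff80003ff80))
) (.leaf (nat_lit 0xce53ba74e530a000127254e51da4ce515a30013226d25029c0010c22d24f395ce4ec9e000f31f244d9989c4cd12000c48c000c59a0010221000ab8a000ac97000e31d00096890009794ba4898d0007e889c4760f8a470870007f91008cc1b008bc19000520b008a4160088e130006b8e00875104e42e8600027054e42084000190324411820000a0101c0400))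
) (.node (.leaf (nat_lit 0x5e53f2746532a60852ba54651ea45e519233250b2208506a1464faa0084f59f5e4ee1e084e69d1c4de1c944d51bac4cb9a944c319084ba98ac4b397944aa16084a295ac49c9494495133248912ac485919447d10724738f5e46a0e724628d5e45c0c084548b7244c8a5e446097243f885e439074642f863242605464218432418031c415020840c8101c0200))
 (.leaf (nat_lit 0x7e53ca70012d9f82528a50011a9e0011ba4be5091d0012ea6000f79500105210011723824e498000f8a0a04cf94000c81aa04be990090822000af17a04a696000dc1cc449991a04908ebe48709000d11ba047890000720f7e4678d00092130005a0c824538b0004c0a7e44488008861200037070002b820002c860001d810001e840082405008160301c0600))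
)) (.node (.node (.leaf (nat_lit 0x5a539a7425332604528254251f245a513a32e50aa20450421424fb20044f51f5a4ea9e044e41d184d91c904ce9ba84ca1a904bd99044b818a84b117904a596044a115a849b149048f932e48892a84831190477906e4700f5a4658e6e4610d5a4578c044530b6e44b0a5a442896e43e085a4348742430062e4258542422042e4178318411020440b0101c0100))
 (.leaf (nat_lit 0xd0538220013426c852aa10012024d05121bbc50da0c85059f00937270012a25d04e916000e61d264dc9c9e4d39a0091123000c219c84b98b000b2179e4a894000b918008e81e0009413bc48b9200084119e47b900006c860006d8f0005d850005e8d000a2150004784000488a0003a830003b88008640e008560c0084109008330726413820000c0101c0500))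
) (.node (.leaf (nat_lit 0x6253fa74a535a60c52c254a521a462519a336510a20c507214a4fca00c4f61f624ee9e0c4e71d204de9c984d31bb04c69a984c1190c4bb18b04ad97984a8160c4a315b04989498493133648d92b0480919847b10764740f6246a8e764630d6245c8c0c4550b7644d0a6244689764400862439874a431863642a854a422843641c8320415820c40d0101c0300))
 (.leaf (nat_lit 0x6853da7001352684524230012124685179e5250ea2844ff1b000fc20844f01a0092325844e019000d692a24d196ca4c894a24bf93844b50d000d79c008fe218449e0c008ef1f008df1d000b0170008211a247990000730f684688e864618a6845a898444f05008b4180089d150003f086843787000310652428840084e0b0001b030000e800000f820080701))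
))) (.node (.node (.node (.node (.leaf (nat_lit 0x5853aa7405302602525a54051d2458514a32c50ca202500a1404fa20024f19f584eb9e024e19d164da9c8e4d29ba64c71a8e4c099024b698a64ae178e4a7960249f95a6499148e492932c48a92a6481118e47a906c46f0f584668e6c4600d584588c024508b6c44a0a58443896c43d0858435874042e062c4278540420042c419831641282024088101c0080))
 (.leaf (nat_lit 0x30520003069f003071e003069e002851a0028618002871600286950028714002851400287130028792002040d002048c002040c002070a002048a002040a0020709002048900204090020608002048800204070018586001850600185850018505001870400185840018504001858300185030010682001060200106810010601000878000087000000000))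
) (.leaf (nat_lit 0x13c27da531a210526a50011e2400116233a50ba010501980013126104f29d000ed1e104e2950010321000cc8db44c519000bc8c000da1cb44ac16000a48a000f41fb4497130008e89000cd9bb447f0e000758700076908846b080008a12008c41a104518b008ab1700896140087e11000710f0002f063a4268500021043a418830001202104098101c0480))
) (.node (.leaf (nat_lit 0x6053a2748536a60a527a548522a4605142334510220a503a1484fda00a4f49f604eb1e0a4e39d1e4d89c964cf1bae4c99a964be190a4b798ae4b097964a6160a4a095ae49a9496490133448d12ae4829196478107446f8f604660e744608d604580c0a4528b7444a8a60443097443d88604350748432863442a0548423843441c031e410820a40a8101c0280))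
 (.leaf (nat_lit 0x13d275052e2100129255051b23665169e0010898d45049f504f81c0092d260091a2400109a2cc4db95c24d091c64c79a000bf19000e51dc64ae97000a716008f720000d01bc24918d00086880009a140007910804718f0009113000680e664598c000540b8044b8a0008792000450966436875042c0500024825041e0300016810082b060081d0401c0680))
)) (.node (.node (.leaf (nat_lit 0x5c53ea74453626065262544522245c518a33050fa20650121444fd20064f21f5c4ed9e064e21d1a4db1c924d49baa4cb1a924c299064b718aa4b317924a996064a015aa49c1492494933048c92aa485119247c90704748f5c4698e704638d5c45b8c064510b7044d8a5c4458970440885c438874443206304298544423043041b831a41302064090101c0180))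
 (.leaf (nat_lit 0x137a0d6533a6125299fd651fa4001119a00138a70012b250010e220010621000e894124e59d000dd1c00112a3000d41bc04c199124b895b64b197000e99e124a18b000a916c0493930008c12b6483910007c107a46d0e00064867a45e0c0005685000ba187a4480900041847a43b0700033830086c0f0085d0d008470a0083a0800014021240b8101c0580))
) (.node (.leaf (nat_lit 0x6453b274c52fa60e52ca54c51ca464515233850d220e507a14c4f9a00e4f69f644ec1e0e4e79d224dd9c9a4d59bb24ca9a9a4c3990e4bb98b24b2979a4aa960e4a395b249b949a495933848b12b2484919a47d907846e8f644670e7845f8d644590c0e4558b784498a64444097843c8864436074c42d8638428054c41f843841a0322414820e40d8101c0380))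
 (.leaf (nat_lit 0x13e2754534a6001239ed8520a400124a50010f22000fe96544fba0000ef940011823000df93284d717000ffa1000f09f000e09d000b48ab84af92000d21b0009d89000c91a000c019008d61cb8481910007a107c4728f000690e000b5980009e950004e84000620d0005b0c7c43e88000380754430860004f8b00029053c41a832840f0100007800080e02))
))))

noncomputable def tH16_rules : LT :=
(.node (.node (.node (.node (.node (.node (.node (.leaf [nat_lit 70,nat_lit 2,nat_lit 1,nat_lit 0,nat_lit 15,nat_lit 0,nat_lit 14])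
 (.leaf [nat_lit 83,nat_lit 0,nat_lit 1,nat_lit 13,nat_lit 10,nat_lit 12,nat_lit 11,nat_lit 13,nat_lit 11])
) (.node (.leaf [nat_lit 66,nat_lit 0,nat_lit 1,nat_lit 1,nat_lit 12,nat_lit 4,nat_lit 13])
 (.leaf [nat_lit 82,nat_lit 2,nat_lit 1,nat_lit 11,nat_lit 9,nat_lit 11,nat_lit 9,nat_lit 10,nat_lit 8])
)) (.node (.node (.leaf [nat_lit 77,nat_lit 3,nat_lit 1,nat_lit 6,nat_lit 14,nat_lit 7,nat_lit 15,nat_lit 1,nat_lit 2,nat_lit 3])
 (.leaf [nat_lit 85,nat_lit 2,nat_lit 1,nat_lit 12,nat_lit 9,nat_lit 12,nat_lit 8])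
) (.leaf [nat_lit 59,nat_lit 2,nat_lit 1,nat_lit 5,nat_lit 11,nat_lit 1,nat_lit 10])
)) (.node (.node (.node (.leaf [nat_lit 86,nat_lit 1,nat_lit 1,nat_lit 9,nat_lit 15,nat_lit 9,nat_lit 14])
 (.leaf [nat_lit 48,nat_lit 2,nat_lit 1,nat_lit 2,nat_lit 9,nat_lit 6,nat_lit 8])
) (.node (.leaf [nat_lit 80,nat_lit 1,nat_lit 0,nat_lit 13,nat_lit 12,nat_lit 12])
 (.leaf [nat_lit 79,nat_lit 1,nat_lit 1,nat_lit 10,nat_lit 11,nat_lit 11])
)) (.node (.node (.leaf [nat_lit 65,nat_lit 5,nat_lit 1,nat_lit 3,nat_lit 13,nat_lit 1,nat_lit 2,nat_lit 4,nat_lit 6,nat_lit 12])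
 (.leaf [nat_lit 48,nat_lit 0,nat_lit 1,nat_lit 6,nat_lit 8,nat_lit 2,nat_lit 9])
) (.leaf [nat_lit 60,nat_lit 2,nat_lit 1,nat_lit 3,nat_lit 5,nat_lit 10,nat_lit 6,nat_lit 11,nat_lit 1,nat_lit 2])
))) (.node (.node (.node (.node (.leaf [nat_lit 74,nat_lit 5,nat_lit 1,nat_lit 4,nat_lit 15,nat_lit 1,nat_lit 2,nat_lit 3,nat_lit 7,nat_lit 14])
 (.leaf [nat_lit 88,nat_lit 12,nat_lit 0,nat_lit 9,nat_lit 11,nat_lit 12,nat_lit 11,nat_lit 3,nat_lit 4,nat_lit 1,nat_lit 14,nat_lit 12,nat_lit 11,nat_lit 8,nat_lit 11,nat_lit 12,nat_lit 11,nat_lit 3,nat_lit 4,nat_lit 14,nat_lit 12,nat_lit 11])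
) (.node (.leaf [nat_lit 68,nat_lit 2,nat_lit 1,nat_lit 5,nat_lit 4,nat_lit 12,nat_lit 6,nat_lit 13,nat_lit 1,nat_lit 2])
 (.leaf [nat_lit 87,nat_lit 2,nat_lit 0,nat_lit 10,nat_lit 5,nat_lit 15,nat_lit 5,nat_lit 10,nat_lit 14])
)) (.node (.node (.leaf [nat_lit 81,nat_lit 1,nat_lit 0,nat_lit 15,nat_lit 14,nat_lit 14])
 (.leaf [nat_lit 52,nat_lit 0,nat_lit 1,nat_lit 2,nat_lit 6,nat_lit 8,nat_lit 6,nat_lit 9])
) (.leaf [nat_lit 87,nat_lit 4,nat_lit 1,nat_lit 14,nat_lit 11,nat_lit 5,nat_lit 14,nat_lit 5,nat_lit 10])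
)) (.node (.node (.node (.leaf [nat_lit 73,nat_lit 0,nat_lit 1,nat_lit 2,nat_lit 14,nat_lit 3,nat_lit 15])
 (.leaf [nat_lit 52,nat_lit 3,nat_lit 1,nat_lit 6,nat_lit 9,nat_lit 2,nat_lit 6,nat_lit 8])
) (.node (.leaf [nat_lit 55,nat_lit 3,nat_lit 1,nat_lit 1,nat_lit 11,nat_lit 1,nat_lit 5,nat_lit 10])
 (.leaf [nat_lit 84,nat_lit 1,nat_lit 0,nat_lit 15,nat_lit 12,nat_lit 15,nat_lit 13,nat_lit 15,nat_lit 12])
)) (.node (.node (.leaf [nat_lit 69,nat_lit 4,nat_lit 1,nat_lit 7,nat_lit 13,nat_lit 0,nat_lit 2,nat_lit 7,nat_lit 12])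
 (.leaf [nat_lit 86,nat_lit 0,nat_lit 1,nat_lit 15,nat_lit 8,nat_lit 15,nat_lit 9])
) (.leaf [nat_lit 56,nat_lit 0,nat_lit 1,nat_lit 7,nat_lit 10,nat_lit 2,nat_lit 11])
)))) (.node (.node (.node (.node (.node (.leaf [nat_lit 72,nat_lit 4,nat_lit 1,nat_lit 2,nat_lit 15,nat_lit 0,nat_lit 2,nat_lit 3,nat_lit 14])
 (.leaf [nat_lit 81,nat_lit 1,nat_lit 1,nat_lit 14,nat_lit 15,nat_lit 15])
) (.node (.leaf [nat_lit 67,nat_lit 3,nat_lit 1,nat_lit 3,nat_lit 12,nat_lit 5,nat_lit 13,nat_lit 1,nat_lit 2,nat_lit 4])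
 (.leaf [nat_lit 85,nat_lit 3,nat_lit 0,nat_lit 12,nat_lit 8,nat_lit 12,nat_lit 9])
)) (.node (.node (.leaf [nat_lit 86,nat_lit 3,nat_lit 1,nat_lit 8,nat_lit 14,nat_lit 8,nat_lit 15])
 (.leaf [nat_lit 46,nat_lit 0,nat_lit 1,nat_lit 0,nat_lit 8,nat_lit 0,nat_lit 9])
) (.leaf [nat_lit 61,nat_lit 4,nat_lit 1,nat_lit 7,nat_lit 11,nat_lit 0,nat_lit 2,nat_lit 7,nat_lit 10])
)) (.node (.node (.node (.leaf [nat_lit 70,nat_lit 0,nat_lit 1,nat_lit 0,nat_lit 14,nat_lit 0,nat_lit 15])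
 (.leaf [nat_lit 50,nat_lit 5,nat_lit 1,nat_lit 4,nat_lit 9,nat_lit 1,nat_lit 2,nat_lit 5,nat_lit 3,nat_lit 8])
) (.node (.leaf [nat_lit 84,nat_lit 0,nat_lit 1,nat_lit 15,nat_lit 12,nat_lit 14,nat_lit 13,nat_lit 15,nat_lit 13])
 (.leaf [nat_lit 84,nat_lit 2,nat_lit 0,nat_lit 13,nat_lit 15,nat_lit 13,nat_lit 15,nat_lit 12,nat_lit 14])
)) (.node (.node (.leaf [nat_lit 67,nat_lit 5,nat_lit 1,nat_lit 5,nat_lit 13,nat_lit 1,nat_lit 2,nat_lit 4,nat_lit 3,nat_lit 12])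
 (.leaf [nat_lit 78,nat_lit 1,nat_lit 0,nat_lit 9,nat_lit 8,nat_lit 8])
) (.leaf [nat_lit 55,nat_lit 1,nat_lit 1,nat_lit 5,nat_lit 10,nat_lit 1,nat_lit 11,nat_lit 1])
))) (.node (.node (.node (.node (.leaf [nat_lit 76,nat_lit 5,nat_lit 1,nat_lit 6,nat_lit 15,nat_lit 1,nat_lit 2,nat_lit 4,nat_lit 3,nat_lit 14])
 (.leaf [nat_lit 46,nat_lit 2,nat_lit 1,nat_lit 0,nat_lit 9,nat_lit 0,nat_lit 8])
) (.node (.leaf [nat_lit 64,nat_lit 0,nat_lit 1,nat_lit 7,nat_lit 12,nat_lit 2,nat_lit 13])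
 (.leaf [nat_lit 84,nat_lit 1,nat_lit 1,nat_lit 13,nat_lit 14,nat_lit 13,nat_lit 15,nat_lit 13,nat_lit 14])
)) (.node (.node (.leaf [nat_lit 63,nat_lit 4,nat_lit 1,nat_lit 1,nat_lit 13,nat_lit 0,nat_lit 1,nat_lit 4,nat_lit 12])
 (.leaf [nat_lit 53,nat_lit 3,nat_lit 1,nat_lit 4,nat_lit 8,nat_lit 7,nat_lit 9,nat_lit 1,nat_lit 2,nat_lit 5])
) (.leaf [nat_lit 59,nat_lit 0,nat_lit 1,nat_lit 1,nat_lit 10,nat_lit 5,nat_lit 11])
)) (.node (.node (.node (.leaf [nat_lit 76,nat_lit 2,nat_lit 1,nat_lit 4,nat_lit 3,nat_lit 14,nat_lit 6,nat_lit 15,nat_lit 1,nat_lit 2])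
 (.leaf [nat_lit 78,nat_lit 1,nat_lit 1,nat_lit 8,nat_lit 9,nat_lit 9])
) (.leaf [nat_lit 57,nat_lit 5,nat_lit 1,nat_lit 3,nat_lit 11,nat_lit 1,nat_lit 2,nat_lit 5,nat_lit 4,nat_lit 10])
) (.node (.node (.leaf [nat_lit 84,nat_lit 2,nat_lit 1,nat_lit 15,nat_lit 13,nat_lit 15,nat_lit 13,nat_lit 14,nat_lit 12])
 (.leaf [nat_lit 83,nat_lit 3,nat_lit 1,nat_lit 10,nat_lit 13,nat_lit 11,nat_lit 12,nat_lit 10,nat_lit 12])
) (.leaf [nat_lit 87,nat_lit 1,nat_lit 1,nat_lit 15,nat_lit 5,nat_lit 10,nat_lit 15,nat_lit 11,nat_lit 5])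
))))) (.node (.node (.node (.node (.node (.node (.leaf [nat_lit 71,nat_lit 2,nat_lit 1,nat_lit 1,nat_lit 15,nat_lit 5,nat_lit 14])
 (.leaf [nat_lit 84,nat_lit 3,nat_lit 1,nat_lit 12,nat_lit 15,nat_lit 13,nat_lit 14,nat_lit 12,nat_lit 14])
) (.node (.leaf [nat_lit 69,nat_lit 1,nat_lit 1,nat_lit 2,nat_lit 7,nat_lit 12,nat_lit 7,nat_lit 13,nat_lit 0])
 (.leaf [nat_lit 85,nat_lit 1,nat_lit 0,nat_lit 13,nat_lit 9,nat_lit 13,nat_lit 8])
)) (.node (.node (.leaf [nat_lit 74,nat_lit 3,nat_lit 1,nat_lit 7,nat_lit 14,nat_lit 4,nat_lit 15,nat_lit 1,nat_lit 2,nat_lit 3])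
 (.leaf [nat_lit 86,nat_lit 2,nat_lit 1,nat_lit 14,nat_lit 9,nat_lit 14,nat_lit 8])
) (.leaf [nat_lit 60,nat_lit 5,nat_lit 1,nat_lit 6,nat_lit 11,nat_lit 1,nat_lit 2,nat_lit 3,nat_lit 5,nat_lit 10])
)) (.node (.node (.node (.leaf [nat_lit 87,nat_lit 3,nat_lit 1,nat_lit 11,nat_lit 15,nat_lit 11,nat_lit 5,nat_lit 14,nat_lit 5])
 (.leaf [nat_lit 49,nat_lit 5,nat_lit 1,nat_lit 3,nat_lit 9,nat_lit 1,nat_lit 2,nat_lit 5,nat_lit 7,nat_lit 8])
) (.node (.leaf [nat_lit 84,nat_lit 4,nat_lit 1,nat_lit 14,nat_lit 13,nat_lit 14,nat_lit 12,nat_lit 14,nat_lit 13])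
 (.leaf [nat_lit 86,nat_lit 2,nat_lit 0,nat_lit 8,nat_lit 15,nat_lit 8,nat_lit 14])
)) (.node (.node (.leaf [nat_lit 66,nat_lit 2,nat_lit 1,nat_lit 4,nat_lit 13,nat_lit 1,nat_lit 12])
 (.leaf [nat_lit 49,nat_lit 3,nat_lit 1,nat_lit 7,nat_lit 8,nat_lit 3,nat_lit 9,nat_lit 1,nat_lit 2,nat_lit 5])
) (.leaf [nat_lit 57,nat_lit 3,nat_lit 1,nat_lit 4,nat_lit 10,nat_lit 3,nat_lit 11,nat_lit 1,nat_lit 2,nat_lit 5])
))) (.node (.node (.node (.node (.leaf [nat_lit 75,nat_lit 3,nat_lit 1,nat_lit 5,nat_lit 15,nat_lit 1,nat_lit 5,nat_lit 14])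
 (.leaf [nat_lit 82,nat_lit 5,nat_lit 1,nat_lit 8,nat_lit 10,nat_lit 8,nat_lit 10,nat_lit 9,nat_lit 11])
) (.node (.leaf [nat_lit 65,nat_lit 3,nat_lit 1,nat_lit 6,nat_lit 12,nat_lit 3,nat_lit 13,nat_lit 1,nat_lit 2,nat_lit 4])
 (.leaf [nat_lit 86,nat_lit 3,nat_lit 0,nat_lit 14,nat_lit 8,nat_lit 14,nat_lit 9])
)) (.node (.node (.leaf [nat_lit 62,nat_lit 2,nat_lit 1,nat_lit 0,nat_lit 13,nat_lit 0,nat_lit 12])
 (.leaf [nat_lit 50,nat_lit 3,nat_lit 1,nat_lit 3,nat_lit 8,nat_lit 4,nat_lit 9,nat_lit 1,nat_lit 2,nat_lit 5])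
) (.leaf [nat_lit 54,nat_lit 0,nat_lit 1,nat_lit 0,nat_lit 10,nat_lit 0,nat_lit 11])
)) (.node (.node (.node (.leaf [nat_lit 72,nat_lit 2,nat_lit 1,nat_lit 3,nat_lit 14,nat_lit 2,nat_lit 15,nat_lit 0,nat_lit 2])
 (.leaf [nat_lit 53,nat_lit 5,nat_lit 1,nat_lit 7,nat_lit 9,nat_lit 1,nat_lit 2,nat_lit 5,nat_lit 4,nat_lit 8])
) (.node (.leaf [nat_lit 56,nat_lit 2,nat_lit 1,nat_lit 2,nat_lit 11,nat_lit 7,nat_lit 10])
 (.leaf [nat_lit 85,nat_lit 0,nat_lit 0,nat_lit 9,nat_lit 12,nat_lit 9,nat_lit 13])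
)) (.node (.node (.leaf [nat_lit 85,nat_lit 1,nat_lit 1,nat_lit 9,nat_lit 13,nat_lit 9,nat_lit 12])
 (.leaf [nat_lit 85,nat_lit 2,nat_lit 0,nat_lit 8,nat_lit 13,nat_lit 8,nat_lit 12])
) (.leaf [nat_lit 79,nat_lit 1,nat_lit 0,nat_lit 11,nat_lit 10,nat_lit 10])
)))) (.node (.node (.node (.node (.node (.leaf [nat_lit 73,nat_lit 2,nat_lit 1,nat_lit 3,nat_lit 15,nat_lit 2,nat_lit 14])
 (.leaf [nat_lit 87,nat_lit 4,nat_lit 0,nat_lit 14,nat_lit 5,nat_lit 10,nat_lit 14,nat_lit 11,nat_lit 5])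
) (.node (.leaf [nat_lit 63,nat_lit 2,nat_lit 1,nat_lit 4,nat_lit 12,nat_lit 1,nat_lit 13,nat_lit 0,nat_lit 1])
 (.leaf [nat_lit 85,nat_lit 0,nat_lit 1,nat_lit 13,nat_lit 8,nat_lit 13,nat_lit 9])
)) (.node (.node (.leaf [nat_lit 87,nat_lit 5,nat_lit 1,nat_lit 10,nat_lit 5,nat_lit 14,nat_lit 5,nat_lit 10,nat_lit 15])
 (.leaf [nat_lit 51,nat_lit 0,nat_lit 1,nat_lit 1,nat_lit 8,nat_lit 5,nat_lit 9])
) (.leaf [nat_lit 83,nat_lit 2,nat_lit 1,nat_lit 13,nat_lit 11,nat_lit 13,nat_lit 11,nat_lit 12,nat_lit 10])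
)) (.node (.node (.node (.leaf [nat_lit 75,nat_lit 0,nat_lit 1,nat_lit 1,nat_lit 5,nat_lit 14,nat_lit 5,nat_lit 15])
 (.leaf [nat_lit 51,nat_lit 2,nat_lit 1,nat_lit 5,nat_lit 9,nat_lit 1,nat_lit 8])
) (.node (.leaf [nat_lit 54,nat_lit 2,nat_lit 1,nat_lit 0,nat_lit 11,nat_lit 0,nat_lit 10])
 (.leaf [nat_lit 83,nat_lit 1,nat_lit 1,nat_lit 11,nat_lit 12,nat_lit 11,nat_lit 13,nat_lit 11,nat_lit 12])
)) (.node (.node (.leaf [nat_lit 68,nat_lit 5,nat_lit 1,nat_lit 6,nat_lit 13,nat_lit 1,nat_lit 2,nat_lit 5,nat_lit 4,nat_lit 12])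
 (.leaf [nat_lit 82,nat_lit 0,nat_lit 1,nat_lit 11,nat_lit 8,nat_lit 10,nat_lit 9,nat_lit 11,nat_lit 9])
) (.leaf [nat_lit 58,nat_lit 3,nat_lit 1,nat_lit 6,nat_lit 10,nat_lit 4,nat_lit 11,nat_lit 1,nat_lit 2,nat_lit 5])
))) (.node (.node (.node (.node (.leaf [nat_lit 77,nat_lit 5,nat_lit 1,nat_lit 7,nat_lit 15,nat_lit 1,nat_lit 2,nat_lit 3,nat_lit 6,nat_lit 14])
 (.leaf [nat_lit 47,nat_lit 3,nat_lit 1,nat_lit 1,nat_lit 9,nat_lit 1,nat_lit 5,nat_lit 8])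
) (.node (.leaf [nat_lit 85,nat_lit 3,nat_lit 1,nat_lit 8,nat_lit 12,nat_lit 8,nat_lit 13])
 (.leaf [nat_lit 82,nat_lit 3,nat_lit 1,nat_lit 8,nat_lit 11,nat_lit 9,nat_lit 10,nat_lit 8,nat_lit 10])
)) (.node (.node (.leaf [nat_lit 64,nat_lit 2,nat_lit 1,nat_lit 2,nat_lit 13,nat_lit 7,nat_lit 12])
 (.leaf [nat_lit 47,nat_lit 1,nat_lit 1,nat_lit 5,nat_lit 8,nat_lit 1,nat_lit 9,nat_lit 1])
) (.leaf [nat_lit 61,nat_lit 1,nat_lit 1,nat_lit 2,nat_lit 7,nat_lit 10,nat_lit 7,nat_lit 11,nat_lit 0])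
)) (.node (.node (.node (.leaf [nat_lit 71,nat_lit 0,nat_lit 1,nat_lit 5,nat_lit 14,nat_lit 1,nat_lit 15])
 (.leaf [nat_lit 82,nat_lit 4,nat_lit 1,nat_lit 10,nat_lit 9,nat_lit 10,nat_lit 8,nat_lit 10,nat_lit 9])
) (.leaf [nat_lit 58,nat_lit 5,nat_lit 1,nat_lit 4,nat_lit 11,nat_lit 1,nat_lit 2,nat_lit 5,nat_lit 6,nat_lit 10])
) (.node (.node (.leaf [nat_lit 62,nat_lit 0,nat_lit 1,nat_lit 0,nat_lit 12,nat_lit 0,nat_lit 13])
 (.leaf [nat_lit 80,nat_lit 1,nat_lit 1,nat_lit 12,nat_lit 13,nat_lit 13])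
) (.leaf [nat_lit 83,nat_lit 4,nat_lit 1,nat_lit 12,nat_lit 11,nat_lit 12,nat_lit 10,nat_lit 12,nat_lit 11])
))))))

noncomputable def tH16_subs : LT :=
(.leaf [nat_lit 0,nat_lit 0,nat_lit 0,nat_lit 16])


noncomputable def tH16 : TC :=
  ⟨fun x c => Nat.shiftRight (BT.get tH16_t x) (Nat.mul (nat_lit 28) c),
  (nat_lit 7), (nat_lit 127), (nat_lit 262143), (nat_lit 18), (nat_lit 1023), (nat_lit 262016), (nat_lit 40), (nat_lit 40), (nat_lit 16), (nat_lit 14), (nat_lit 16), (nat_lit 17), tH16_inv, tH16_rules, tH16_subs⟩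

theorem tH16_c1 : tH16.rules.all (ruleOK tH16.m tH16.inv tH16_rels) = true := by decide +kernel
theorem tH16_c2 : tH16.subs.all (subOK tH16.m tH16.inv tH16_hws) = true := by decide +kernel
theorem tH16_c3 : tH16.base = true := by decide +kernel

theorem tH16_s0 : tH16.slots (nat_lit 0) (nat_lit 40) = true := by decide +kernel

theorem tH16_c4 : tH16.Upto tH16.N := ((TC.upto_zero tH16).step _ tH16_s0)
theorem tH16_c5 : tH16.UptoE tH16.N := (TC.uptoE_n tH16)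
theorem tH16_bound {G : Type*} [Group G] {g : ℕ → G} {H : Subgroup G} (hinv : ∀ x < 16, g x * g (tH16_inv x) = 1)
    (hrels : ∀ i, evalW g (tH16_rels.get i) = 1) (hH : ∀ x < 14, g x ∈ H) (hhws : ∀ i, evalW g (tH16_hws.get i) ∈ H) :
    H.relIndex (genLt g 16) ≠ 0 ∧ H.relIndex (genLt g 16) ≤ 40 :=
  TC.relIndex_le (T := tH16) hinv hrels hH hhws tH16_c1 tH16_c2 tH16_c3 tH16_c4 tH16_c5

theorem tH16_bd : Bound.{u} relH 14 16 40 := fun _ _ _ _ hs hH =>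
  tH16_bound (hs.hinv (by decide +kernel)) (hs.tree (by decide +kernel)) hH (leaf_nil_mem' _ _ (by decide +kernel))

theorem presH : Pres.{u} relH 16 3317760 := pres14.step tH16_bd (by decide +kernel)

theorem relH_ok : allL relH (fun w => Nat.beq (evC A cL w) A.one) = true := by decide +kernel

end Cfsg.Agent.SuzT
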