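import Mathlib
import Cfsg.Agent.Spor.Comp.Chain
import Cfsg.Agent.SuzT.TUD0
import Cfsg.Agent.SuzT.TUD1

/-! Generated by tools/pg: coset enumeration tU -/

set_option autoImplicit false
set_option maxRecDepth 100000
set_option linter.unusedVariables false
set_option exponentiation.threshold 100000

namespace Cfsg.Agent.SuzT

open Cfsg.Agent.Spor

noncomputable def tU_rels : LT :=
(.node (.node (.node (.node (.node (.node (.node (.node (.leaf [])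
 (.leaf [nat_lit 1,nat_lit 3,nat_lit 5,nat_lit 1,nat_lit 5,nat_lit 3])
) (.node (.leaf [nat_lit 0,nat_lit 1,nat_lit 4,nat_lit 0,nat_lit 4,nat_lit 1])
 (.leaf [nat_lit 12,nat_lit 11,nat_lit 12,nat_lit 11])
)) (.node (.node (.leaf [nat_lit 2,nat_lit 3,nat_lit 2,nat_lit 3])
 (.leaf [nat_lit 2,nat_lit 8,nat_lit 9,nat_lit 2,nat_lit 10,nat_lit 8])
) (.leaf [nat_lit 0,nat_lit 4,nat_lit 6,nat_lit 8,nat_lit 6,nat_lit 8])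
)) (.node (.node (.node (.leaf [nat_lit 0,nat_lit 1,nat_lit 0,nat_lit 1])
 (.leaf [nat_lit 1,nat_lit 9,nat_lit 11,nat_lit 1,nat_lit 11,nat_lit 10])
) (.leaf [nat_lit 0,nat_lit 2,nat_lit 8,nat_lit 0,nat_lit 8,nat_lit 2])
) (.node (.node (.leaf [nat_lit 7,nat_lit 9,nat_lit 7,nat_lit 10])
 (.leaf [nat_lit 3,nat_lit 11,nat_lit 10,nat_lit 4,nat_lit 9,nat_lit 11])
) (.leaf [nat_lit 0,nat_lit 6,nat_lit 8,nat_lit 0,nat_lit 8,nat_lit 6])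
))) (.node (.node (.node (.node (.leaf [nat_lit 7,nat_lit 7])
 (.leaf [nat_lit 1,nat_lit 5,nat_lit 9,nat_lit 1,nat_lit 10,nat_lit 5])
) (.node (.leaf [nat_lit 0,nat_lit 1,nat_lit 10,nat_lit 0,nat_lit 9,nat_lit 1])
 (.leaf [nat_lit 13,nat_lit 0,nat_lit 13,nat_lit 0,nat_lit 2])
)) (.node (.node (.leaf [nat_lit 3,nat_lit 9,nat_lit 3,nat_lit 10])
 (.leaf [nat_lit 3,nat_lit 7,nat_lit 9,nat_lit 3,nat_lit 10,nat_lit 7])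
) (.leaf [nat_lit 0,nat_lit 5,nat_lit 6,nat_lit 1,nat_lit 5,nat_lit 6])
)) (.node (.node (.node (.leaf [nat_lit 0,nat_lit 9,nat_lit 0,nat_lit 10])
 (.leaf [nat_lit 2,nat_lit 4,nat_lit 9,nat_lit 2,nat_lit 10,nat_lit 4])
) (.leaf [nat_lit 0,nat_lit 3,nat_lit 7,nat_lit 0,nat_lit 7,nat_lit 3])
) (.node (.node (.leaf [nat_lit 1,nat_lit 4,nat_lit 5,nat_lit 4,nat_lit 5])
 (.leaf [nat_lit 5,nat_lit 11,nat_lit 9,nat_lit 6,nat_lit 10,nat_lit 11])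
) (.leaf [nat_lit 0,nat_lit 7,nat_lit 10,nat_lit 0,nat_lit 9,nat_lit 7])
)))) (.node (.node (.node (.node (.node (.leaf [nat_lit 3,nat_lit 3])
 (.leaf [nat_lit 1,nat_lit 4,nat_lit 6,nat_lit 1,nat_lit 6,nat_lit 4])
) (.node (.leaf [nat_lit 0,nat_lit 1,nat_lit 6,nat_lit 5,nat_lit 6,nat_lit 5])
 (.leaf [nat_lit 13,nat_lit 9,nat_lit 13,nat_lit 10])
)) (.node (.node (.leaf [nat_lit 2,nat_lit 9,nat_lit 2,nat_lit 10])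
 (.leaf [nat_lit 2,nat_lit 10,nat_lit 11,nat_lit 2,nat_lit 11,nat_lit 9])
) (.leaf [nat_lit 0,nat_lit 4,nat_lit 9,nat_lit 0,nat_lit 10,nat_lit 4])
)) (.node (.node (.node (.leaf [nat_lit 0,nat_lit 5,nat_lit 0,nat_lit 5])
 (.leaf [nat_lit 2,nat_lit 3,nat_lit 9,nat_lit 2,nat_lit 10,nat_lit 3])
) (.leaf [nat_lit 0,nat_lit 2,nat_lit 11,nat_lit 0,nat_lit 11,nat_lit 2])
) (.node (.node (.leaf [nat_lit 0,nat_lit 1,nat_lit 2,nat_lit 1,nat_lit 2])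
 (.leaf [nat_lit 4,nat_lit 8,nat_lit 10,nat_lit 4,nat_lit 9,nat_lit 8])
) (.leaf [nat_lit 0,nat_lit 6,nat_lit 11,nat_lit 0,nat_lit 11,nat_lit 6])
))) (.node (.node (.node (.node (.leaf [nat_lit 11,nat_lit 11])
 (.leaf [nat_lit 1,nat_lit 6,nat_lit 10,nat_lit 1,nat_lit 9,nat_lit 6])
) (.node (.leaf [nat_lit 0,nat_lit 2,nat_lit 5,nat_lit 0,nat_lit 5,nat_lit 2])
 (.leaf [nat_lit 13,nat_lit 4,nat_lit 13,nat_lit 8])
)) (.node (.node (.leaf [nat_lit 4,nat_lit 9,nat_lit 4,nat_lit 10])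
 (.leaf [nat_lit 3,nat_lit 10,nat_lit 11,nat_lit 4,nat_lit 11,nat_lit 9])
) (.leaf [nat_lit 0,nat_lit 5,nat_lit 9,nat_lit 0,nat_lit 10,nat_lit 5])
)) (.node (.node (.node (.leaf [nat_lit 1,nat_lit 5,nat_lit 1,nat_lit 5])
 (.leaf [nat_lit 2,nat_lit 6,nat_lit 7,nat_lit 4,nat_lit 7,nat_lit 6])
) (.leaf [nat_lit 0,nat_lit 3,nat_lit 10,nat_lit 0,nat_lit 9,nat_lit 3])
) (.node (.node (.leaf [nat_lit 2,nat_lit 4,nat_lit 6,nat_lit 2,nat_lit 6])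
 (.leaf [nat_lit 7,nat_lit 10,nat_lit 11,nat_lit 8,nat_lit 11,nat_lit 9])
) (.leaf [nat_lit 0,nat_lit 8,nat_lit 11,nat_lit 0,nat_lit 11,nat_lit 8])
))))) (.node (.node (.node (.node (.node (.node (.leaf [nat_lit 1,nat_lit 1])
 (.leaf [nat_lit 1,nat_lit 3,nat_lit 10,nat_lit 1,nat_lit 9,nat_lit 3])
) (.node (.leaf [nat_lit 0,nat_lit 1,nat_lit 5,nat_lit 6,nat_lit 5,nat_lit 6])
 (.leaf [nat_lit 12,nat_lit 2,nat_lit 12,nat_lit 2,nat_lit 12,nat_lit 2])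
)) (.node (.node (.leaf [nat_lit 2,nat_lit 7,nat_lit 2,nat_lit 7])
 (.leaf [nat_lit 2,nat_lit 8,nat_lit 11,nat_lit 2,nat_lit 11,nat_lit 8])
) (.leaf [nat_lit 0,nat_lit 4,nat_lit 8,nat_lit 0,nat_lit 8,nat_lit 4])
)) (.node (.node (.node (.leaf [nat_lit 0,nat_lit 3,nat_lit 0,nat_lit 3])
 (.leaf [nat_lit 2,nat_lit 3,nat_lit 4,nat_lit 2,nat_lit 4,nat_lit 3])
) (.leaf [nat_lit 0,nat_lit 2,nat_lit 9,nat_lit 0,nat_lit 10,nat_lit 2])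
) (.node (.node (.leaf [nat_lit 8,nat_lit 9,nat_lit 8,nat_lit 10])
 (.leaf [nat_lit 4,nat_lit 6,nat_lit 10,nat_lit 4,nat_lit 9,nat_lit 6])
) (.leaf [nat_lit 0,nat_lit 6,nat_lit 9,nat_lit 0,nat_lit 10,nat_lit 6])
))) (.node (.node (.node (.node (.leaf [nat_lit 9,nat_lit 10])
 (.leaf [nat_lit 1,nat_lit 5,nat_lit 11,nat_lit 1,nat_lit 11,nat_lit 5])
) (.node (.leaf [nat_lit 0,nat_lit 2,nat_lit 3,nat_lit 0,nat_lit 3,nat_lit 2])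
 (.leaf [nat_lit 12,nat_lit 4,nat_lit 12,nat_lit 6])
)) (.node (.node (.leaf [nat_lit 4,nat_lit 6,nat_lit 4,nat_lit 6])
 (.leaf [nat_lit 3,nat_lit 7,nat_lit 11,nat_lit 4,nat_lit 11,nat_lit 7])
) (.leaf [nat_lit 0,nat_lit 5,nat_lit 7,nat_lit 3,nat_lit 5,nat_lit 7])
)) (.node (.node (.node (.leaf [nat_lit 1,nat_lit 3,nat_lit 1,nat_lit 3])
 (.leaf [nat_lit 2,nat_lit 4,nat_lit 11,nat_lit 2,nat_lit 11,nat_lit 4])
) (.leaf [nat_lit 0,nat_lit 3,nat_lit 8,nat_lit 0,nat_lit 8,nat_lit 3])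
) (.node (.node (.leaf [nat_lit 2,nat_lit 3,nat_lit 5,nat_lit 2,nat_lit 5])
 (.leaf [nat_lit 6,nat_lit 7,nat_lit 6,nat_lit 7,nat_lit 6,nat_lit 7])
) (.leaf [nat_lit 0,nat_lit 8,nat_lit 9,nat_lit 0,nat_lit 10,nat_lit 8])
)))) (.node (.node (.node (.node (.node (.leaf [nat_lit 5,nat_lit 5])
 (.leaf [nat_lit 1,nat_lit 4,nat_lit 10,nat_lit 1,nat_lit 9,nat_lit 4])
) (.node (.leaf [nat_lit 0,nat_lit 1,nat_lit 8,nat_lit 0,nat_lit 8,nat_lit 1])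
 (.leaf [nat_lit 13,nat_lit 2,nat_lit 13,nat_lit 2])
)) (.node (.node (.leaf [nat_lit 3,nat_lit 5,nat_lit 3,nat_lit 5])
 (.leaf [nat_lit 3,nat_lit 5,nat_lit 10,nat_lit 3,nat_lit 9,nat_lit 5])
) (.leaf [nat_lit 0,nat_lit 4,nat_lit 11,nat_lit 0,nat_lit 11,nat_lit 4])
)) (.node (.node (.node (.leaf [nat_lit 0,nat_lit 7,nat_lit 0,nat_lit 7])
 (.leaf [nat_lit 2,nat_lit 3,nat_lit 11,nat_lit 2,nat_lit 11,nat_lit 3])
) (.leaf [nat_lit 0,nat_lit 3,nat_lit 5,nat_lit 7,nat_lit 5,nat_lit 7])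
) (.node (.node (.leaf [nat_lit 1,nat_lit 3,nat_lit 6,nat_lit 3,nat_lit 6])
 (.leaf [nat_lit 5,nat_lit 9,nat_lit 11,nat_lit 6,nat_lit 11,nat_lit 10])
) (.leaf [nat_lit 0,nat_lit 7,nat_lit 8,nat_lit 2,nat_lit 7,nat_lit 8])
))) (.node (.node (.node (.node (.leaf [nat_lit 13,nat_lit 13])
 (.leaf [nat_lit 1,nat_lit 7,nat_lit 6,nat_lit 3,nat_lit 6,nat_lit 7])
) (.node (.leaf [nat_lit 0,nat_lit 2,nat_lit 7,nat_lit 0,nat_lit 7,nat_lit 2])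
 (.leaf [nat_lit 12,nat_lit 13,nat_lit 12,nat_lit 13,nat_lit 12,nat_lit 13,nat_lit 12,nat_lit 13,nat_lit 12,nat_lit 13])
)) (.node (.node (.leaf [nat_lit 5,nat_lit 11,nat_lit 6,nat_lit 11])
 (.leaf [nat_lit 3,nat_lit 11,nat_lit 8,nat_lit 4,nat_lit 8,nat_lit 11])
) (.leaf [nat_lit 0,nat_lit 5,nat_lit 11,nat_lit 0,nat_lit 11,nat_lit 5])
)) (.node (.node (.node (.leaf [nat_lit 1,nat_lit 9,nat_lit 1,nat_lit 10])
 (.leaf [nat_lit 2,nat_lit 7,nat_lit 10,nat_lit 2,nat_lit 9,nat_lit 7])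
) (.leaf [nat_lit 0,nat_lit 4,nat_lit 5,nat_lit 0,nat_lit 5,nat_lit 4])
) (.node (.node (.leaf [nat_lit 9,nat_lit 9,nat_lit 11,nat_lit 10,nat_lit 11])
 (.leaf [nat_lit 7,nat_lit 11,nat_lit 10,nat_lit 8,nat_lit 9,nat_lit 11])
) (.leaf [nat_lit 0,nat_lit 10,nat_lit 11,nat_lit 0,nat_lit 11,nat_lit 9])
)))))) (.node (.node (.node (.node (.node (.node (.node (.leaf [nat_lit 0,nat_lit 0])
 (.leaf [nat_lit 1,nat_lit 3,nat_lit 9,nat_lit 1,nat_lit 10,nat_lit 3])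
) (.node (.leaf [nat_lit 0,nat_lit 1,nat_lit 5,nat_lit 0,nat_lit 5,nat_lit 1])
 (.leaf [nat_lit 12,nat_lit 1,nat_lit 12,nat_lit 1])
)) (.node (.node (.leaf [nat_lit 2,nat_lit 4,nat_lit 2,nat_lit 4])
 (.leaf [nat_lit 2,nat_lit 8,nat_lit 10,nat_lit 2,nat_lit 9,nat_lit 8])
) (.leaf [nat_lit 0,nat_lit 4,nat_lit 7,nat_lit 0,nat_lit 7,nat_lit 4])
)) (.node (.node (.node (.leaf [nat_lit 0,nat_lit 2,nat_lit 0,nat_lit 2])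
 (.leaf [nat_lit 1,nat_lit 10,nat_lit 11,nat_lit 1,nat_lit 11,nat_lit 9])
) (.leaf [nat_lit 0,nat_lit 2,nat_lit 8,nat_lit 7,nat_lit 8,nat_lit 7])
) (.node (.node (.leaf [nat_lit 7,nat_lit 11,nat_lit 8,nat_lit 11])
 (.leaf [nat_lit 4,nat_lit 6,nat_lit 9,nat_lit 4,nat_lit 10,nat_lit 6])
) (.leaf [nat_lit 0,nat_lit 6,nat_lit 8,nat_lit 4,nat_lit 6,nat_lit 8])
))) (.node (.node (.node (.node (.leaf [nat_lit 8,nat_lit 8])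
 (.leaf [nat_lit 1,nat_lit 5,nat_lit 10,nat_lit 1,nat_lit 9,nat_lit 5])
) (.node (.leaf [nat_lit 0,nat_lit 1,nat_lit 11,nat_lit 0,nat_lit 11,nat_lit 1])
 (.leaf [nat_lit 12,nat_lit 3,nat_lit 12,nat_lit 5])
)) (.node (.node (.leaf [nat_lit 3,nat_lit 11,nat_lit 4,nat_lit 11])
 (.leaf [nat_lit 3,nat_lit 7,nat_lit 10,nat_lit 3,nat_lit 9,nat_lit 7])
) (.leaf [nat_lit 0,nat_lit 5,nat_lit 7,nat_lit 0,nat_lit 7,nat_lit 5])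
)) (.node (.node (.node (.leaf [nat_lit 0,nat_lit 11,nat_lit 0,nat_lit 11])
 (.leaf [nat_lit 2,nat_lit 4,nat_lit 10,nat_lit 2,nat_lit 9,nat_lit 4])
) (.leaf [nat_lit 0,nat_lit 3,nat_lit 7,nat_lit 5,nat_lit 7,nat_lit 5])
) (.node (.node (.leaf [nat_lit 1,nat_lit 4,nat_lit 8,nat_lit 1,nat_lit 8])
 (.leaf [nat_lit 5,nat_lit 11,nat_lit 10,nat_lit 6,nat_lit 9,nat_lit 11])
) (.leaf [nat_lit 0,nat_lit 7,nat_lit 11,nat_lit 0,nat_lit 11,nat_lit 7])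
)))) (.node (.node (.node (.node (.node (.leaf [nat_lit 4,nat_lit 4])
 (.leaf [nat_lit 1,nat_lit 4,nat_lit 9,nat_lit 1,nat_lit 10,nat_lit 4])
) (.node (.leaf [nat_lit 0,nat_lit 1,nat_lit 7,nat_lit 0,nat_lit 7,nat_lit 1])
 (.leaf [nat_lit 13,nat_lit 11,nat_lit 13,nat_lit 11])
)) (.node (.node (.leaf [nat_lit 2,nat_lit 11,nat_lit 2,nat_lit 11])
 (.leaf [nat_lit 3,nat_lit 5,nat_lit 9,nat_lit 3,nat_lit 10,nat_lit 5])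
) (.leaf [nat_lit 0,nat_lit 4,nat_lit 10,nat_lit 0,nat_lit 9,nat_lit 4])
)) (.node (.node (.node (.leaf [nat_lit 0,nat_lit 6,nat_lit 0,nat_lit 6])
 (.leaf [nat_lit 2,nat_lit 3,nat_lit 10,nat_lit 2,nat_lit 9,nat_lit 3])
) (.leaf [nat_lit 0,nat_lit 3,nat_lit 5,nat_lit 0,nat_lit 5,nat_lit 3])
) (.node (.node (.leaf [nat_lit 0,nat_lit 3,nat_lit 4,nat_lit 3,nat_lit 4])
 (.leaf [nat_lit 5,nat_lit 8,nat_lit 5,nat_lit 8,nat_lit 5,nat_lit 8])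
) (.leaf [nat_lit 0,nat_lit 7,nat_lit 8,nat_lit 0,nat_lit 8,nat_lit 7])
))) (.node (.node (.node (.node (.leaf [nat_lit 12,nat_lit 12])
 (.leaf [nat_lit 1,nat_lit 6,nat_lit 11,nat_lit 1,nat_lit 11,nat_lit 6])
) (.node (.leaf [nat_lit 0,nat_lit 2,nat_lit 6,nat_lit 0,nat_lit 6,nat_lit 2])
 (.leaf [nat_lit 5,nat_lit 8,nat_lit 6,nat_lit 7,nat_lit 12,nat_lit 7,nat_lit 6,nat_lit 8,nat_lit 5,nat_lit 13])
)) (.node (.node (.leaf [nat_lit 5,nat_lit 9,nat_lit 5,nat_lit 10])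
 (.leaf [nat_lit 3,nat_lit 11,nat_lit 6,nat_lit 4,nat_lit 6,nat_lit 11])
) (.leaf [nat_lit 0,nat_lit 5,nat_lit 10,nat_lit 0,nat_lit 9,nat_lit 5])
)) (.node (.node (.node (.leaf [nat_lit 1,nat_lit 6,nat_lit 1,nat_lit 6])
 (.leaf [nat_lit 2,nat_lit 7,nat_lit 9,nat_lit 2,nat_lit 10,nat_lit 7])
) (.leaf [nat_lit 0,nat_lit 3,nat_lit 11,nat_lit 0,nat_lit 11,nat_lit 3])
) (.node (.node (.leaf [nat_lit 2,nat_lit 4,nat_lit 7,nat_lit 4,nat_lit 7])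
 (.leaf [nat_lit 7,nat_lit 11,nat_lit 9,nat_lit 8,nat_lit 10,nat_lit 11])
) (.leaf [nat_lit 0,nat_lit 9,nat_lit 11,nat_lit 0,nat_lit 11,nat_lit 10])
))))) (.node (.node (.node (.node (.node (.node (.leaf [nat_lit 2,nat_lit 2])
 (.leaf [nat_lit 1,nat_lit 3,nat_lit 11,nat_lit 1,nat_lit 11,nat_lit 3])
) (.node (.leaf [nat_lit 0,nat_lit 1,nat_lit 6,nat_lit 0,nat_lit 6,nat_lit 1])
 (.leaf [nat_lit 12,nat_lit 0,nat_lit 12,nat_lit 0,nat_lit 1])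
)) (.node (.node (.leaf [nat_lit 2,nat_lit 8,nat_lit 2,nat_lit 8])
 (.leaf [nat_lit 2,nat_lit 9,nat_lit 11,nat_lit 2,nat_lit 11,nat_lit 10])
) (.leaf [nat_lit 0,nat_lit 4,nat_lit 8,nat_lit 6,nat_lit 8,nat_lit 6])
)) (.node (.node (.node (.leaf [nat_lit 0,nat_lit 4,nat_lit 0,nat_lit 4])
 (.leaf [nat_lit 2,nat_lit 3,nat_lit 7,nat_lit 2,nat_lit 7,nat_lit 3])
) (.leaf [nat_lit 0,nat_lit 2,nat_lit 10,nat_lit 0,nat_lit 9,nat_lit 2])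
) (.node (.node (.leaf [nat_lit 9,nat_lit 11,nat_lit 9,nat_lit 11])
 (.leaf [nat_lit 4,nat_lit 8,nat_lit 9,nat_lit 4,nat_lit 10,nat_lit 8])
) (.leaf [nat_lit 0,nat_lit 6,nat_lit 10,nat_lit 0,nat_lit 9,nat_lit 6])
))) (.node (.node (.node (.node (.leaf [nat_lit 10,nat_lit 9])
 (.leaf [nat_lit 1,nat_lit 6,nat_lit 9,nat_lit 1,nat_lit 10,nat_lit 6])
) (.node (.leaf [nat_lit 0,nat_lit 2,nat_lit 4,nat_lit 0,nat_lit 4,nat_lit 2])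
 (.leaf [nat_lit 13,nat_lit 3,nat_lit 13,nat_lit 7])
)) (.node (.node (.leaf [nat_lit 4,nat_lit 8,nat_lit 4,nat_lit 8])
 (.leaf [nat_lit 3,nat_lit 9,nat_lit 11,nat_lit 4,nat_lit 11,nat_lit 10])
) (.leaf [nat_lit 0,nat_lit 5,nat_lit 8,nat_lit 0,nat_lit 8,nat_lit 5])
)) (.node (.node (.node (.leaf [nat_lit 1,nat_lit 4,nat_lit 1,nat_lit 4])
 (.leaf [nat_lit 2,nat_lit 5,nat_lit 8,nat_lit 3,nat_lit 8,nat_lit 5])
) (.leaf [nat_lit 0,nat_lit 3,nat_lit 9,nat_lit 0,nat_lit 10,nat_lit 3])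
) (.node (.node (.leaf [nat_lit 2,nat_lit 3,nat_lit 8,nat_lit 3,nat_lit 8])
 (.leaf [nat_lit 7,nat_lit 9,nat_lit 11,nat_lit 8,nat_lit 11,nat_lit 10])
) (.leaf [nat_lit 0,nat_lit 8,nat_lit 10,nat_lit 0,nat_lit 9,nat_lit 8])
)))) (.node (.node (.node (.node (.node (.leaf [nat_lit 6,nat_lit 6])
 (.leaf [nat_lit 1,nat_lit 4,nat_lit 11,nat_lit 1,nat_lit 11,nat_lit 4])
) (.node (.leaf [nat_lit 0,nat_lit 1,nat_lit 9,nat_lit 0,nat_lit 10,nat_lit 1])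
 (.leaf [nat_lit 13,nat_lit 1,nat_lit 13,nat_lit 1,nat_lit 13,nat_lit 1])
)) (.node (.node (.leaf [nat_lit 3,nat_lit 7,nat_lit 3,nat_lit 7])
 (.leaf [nat_lit 3,nat_lit 5,nat_lit 11,nat_lit 4,nat_lit 11,nat_lit 5])
) (.leaf [nat_lit 0,nat_lit 5,nat_lit 6,nat_lit 0,nat_lit 6,nat_lit 5])
)) (.node (.node (.node (.leaf [nat_lit 0,nat_lit 8,nat_lit 0,nat_lit 8])
 (.leaf [nat_lit 2,nat_lit 4,nat_lit 8,nat_lit 2,nat_lit 8,nat_lit 4])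
) (.leaf [nat_lit 0,nat_lit 3,nat_lit 6,nat_lit 0,nat_lit 6,nat_lit 3])
) (.node (.node (.leaf [nat_lit 1,nat_lit 3,nat_lit 7,nat_lit 1,nat_lit 7])
 (.leaf [nat_lit 5,nat_lit 10,nat_lit 11,nat_lit 6,nat_lit 11,nat_lit 9])
) (.leaf [nat_lit 0,nat_lit 7,nat_lit 9,nat_lit 0,nat_lit 10,nat_lit 7])
))) (.node (.node (.node (.node (.leaf [nat_lit 9,nat_lit 9,nat_lit 9])
 (.leaf [nat_lit 1,nat_lit 8,nat_lit 5,nat_lit 4,nat_lit 5,nat_lit 8])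
) (.node (.leaf [nat_lit 0,nat_lit 2,nat_lit 7,nat_lit 8,nat_lit 7,nat_lit 8])
 (.leaf [nat_lit 12,nat_lit 3,nat_lit 8,nat_lit 12,nat_lit 3,nat_lit 8,nat_lit 12,nat_lit 3,nat_lit 8,nat_lit 12,nat_lit 3,nat_lit 8,nat_lit 9])
)) (.node (.node (.leaf [nat_lit 6,nat_lit 9,nat_lit 6,nat_lit 10])
 (.leaf [nat_lit 3,nat_lit 11,nat_lit 9,nat_lit 4,nat_lit 10,nat_lit 11])
) (.leaf [nat_lit 0,nat_lit 6,nat_lit 7,nat_lit 0,nat_lit 7,nat_lit 6])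
)) (.node (.node (.node (.leaf [nat_lit 1,nat_lit 11,nat_lit 1,nat_lit 11])
 (.leaf [nat_lit 2,nat_lit 7,nat_lit 11,nat_lit 2,nat_lit 11,nat_lit 7])
) (.leaf [nat_lit 0,nat_lit 4,nat_lit 6,nat_lit 0,nat_lit 6,nat_lit 4])
) (.node (.node (.leaf [nat_lit 0,nat_lit 1,nat_lit 3,nat_lit 0,nat_lit 3,nat_lit 1])
 (.leaf [nat_lit 12,nat_lit 9,nat_lit 12,nat_lit 10])
) (.leaf [nat_lit 1,nat_lit 3,nat_lit 4,nat_lit 1,nat_lit 4,nat_lit 3])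
)))))))
noncomputable def tU_hws : LT :=
(.leaf [])

noncomputable def tU_inv : ℕ → ℕ := getP (nat_lit 8) (nat_lit 255) (nat_lit 0xd0c0b090a080706050403020100)

noncomputable def tU_t : BT :=
(.node (.node (.node (.node tU_t0 tU_t8) (.node tU_t4 tU_t12)) (.node (.node tU_t2 tU_t10) (.node tU_t6 tU_t14))) (.node (.node (.node tU_t1 tU_t9) (.node tU_t5 tU_t13)) (.node (.node tU_t3 tU_t11) (.node tU_t7 tU_t15))))

noncomputable def tU_subs : LT :=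
(.leaf [nat_lit 0,nat_lit 0,nat_lit 0,nat_lit 14])


noncomputable def tU : TC :=
  ⟨fun x c => Nat.rec (nat_lit 0) (fun j _ => Nat.shiftRight (chunk tU_t (nat_lit 4) x j) (Nat.mul (nat_lit 57) (Nat.land c (nat_lit 255)))) (Nat.add (Nat.shiftRight c (nat_lit 8)) (nat_lit 1)),
  (nat_lit 16), (nat_lit 65535), (nat_lit 0x3ffffffff), (nat_lit 34), (nat_lit 0x7fffff), (nat_lit 0x3ffff0000), (nat_lit 2835), (nat_lit 33019), (nat_lit 14), (nat_lit 12), (nat_lit 14), (nat_lit 15), tU_inv, tU_rules, tU_subs⟩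

end Cfsg.Agent.SuzT
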